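import Cfsg.Agent.Lib.Block.WardQSq.Ctx
import Cfsg.Agent.Lib.Grp.FpfPrime
import Cfsg.Agent.Lib.Grp.Solvable

/-!
An operator of prime order which fixes only elements centralised by a coprime group.
-/

set_option autoImplicit false
set_option linter.unusedSectionVars false
set_option linter.style.haveILetI false

namespace Cfsg.Agent.Block.WardQSq

open Subgroup
open scoped commutatorElement Pointwise

universe u

variable {X : Type u} [Group X] [Finite X]

theorem pgroup_coprime {r s : ℕ} [Fact r.Prime] [Fact s.Prime] (h : r ≠ s) {K V : Subgroup X}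
    (hK : IsPGroup r K) (hV : IsPGroup s V) : (Nat.card K).Coprime (Nat.card V) :=
  hK.coprime_card_of_ne r s h _ _ hV

/-- A fixed-point-free operator of prime order forces coprime parts to commute. -/
theorem commute_of_fpf {q r s : ℕ} [Fact q.Prime] [Fact r.Prime] [Fact s.Prime] (hrs : r ≠ s)
    {V K : Subgroup X} (hK : IsPGroup r K) (hV : IsPGroup s V) (hVK : V ≤ normalizer (K : Set X))
    {c : X} (hc : c ^ q = 1) (hcV : c ∈ normalizer (V : Set X)) (hcK : c ∈ normalizer (K : Set X))
    (hfV : V ⊓ centralizer ({c} : Set X) = ⊥) (hfK : K ⊓ centralizer ({c} : Set X) = ⊥) :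
    V ≤ centralizer (K : Set X) := by
  have hVKbot : V ⊓ K = ⊥ := inf_eq_bot_of_coprime (pgroup_coprime hrs hK hV).symm
  have hmul := coe_mul_of_left_le_normalizer_right V K hVK
  have hcU : c ∈ normalizer ((V ⊔ K : Subgroup X) : Set X) :=
    inv_sup (A := zpowers c) (zpowers_le.mpr hcV) (zpowers_le.mpr hcK) (mem_zpowers c)
  have hn : Group.IsNilpotent ↥(V ⊔ K) := by
    refine Grp.isNilpotent_of_fpf (p := q) hc hcU (eq_bot_iff.mpr fun x hx => ?_)
    obtain ⟨hxU, hxc⟩ := hx
    obtain ⟨v, hv, k, hk, rfl⟩ : x ∈ (V : Set X) * (K : Set X) := by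
      rw [← hmul]; exact hxU
    replace hxc : Commute (v * k) c := cmem.mp hxc
    have hv' : c * v * c⁻¹ ∈ V := Grp.mem_conj_normalizer hcV hv
    have hk' : c * k * c⁻¹ ∈ K := Grp.mem_conj_normalizer hcK hk
    have e : (c * v * c⁻¹) * (c * k * c⁻¹) = v * k := by
      calc (c * v * c⁻¹) * (c * k * c⁻¹) = c * (v * k) * c⁻¹ := by group
        _ = v * k := by rw [← hxc.eq]; group
    obtain ⟨e1, e2⟩ := Prod.ext_iff.mp (mul_injective_of_disjoint (disjoint_iff.mpr hVKbot)
      (a₁ := ((⟨_, hv'⟩ : V), (⟨_, hk'⟩ : K))) (a₂ := ((⟨v, hv⟩ : V), (⟨k, hk⟩ : K))) e)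
    have hv1 : v = 1 := mem_bot.mp (hfV.le ⟨hv, cmem.mpr
      (mul_inv_eq_iff_eq_mul.mp (congrArg Subtype.val e1)).symm⟩)
    have hk1 : k = 1 := mem_bot.mp (hfK.le ⟨hk, cmem.mpr
      (mul_inv_eq_iff_eq_mul.mp (congrArg Subtype.val e2)).symm⟩)
    simp [hv1, hk1]
  refine fun v hv => mem_centralizer_iff.mpr fun k hk => ?_
  obtain ⟨i, hi⟩ := hK ⟨k, hk⟩
  obtain ⟨j, hj⟩ := hV ⟨v, hv⟩
  have := Grp.commute_of_nilpotent_coprime hn hrs
    (x := (⟨k, mem_sup_right hk⟩ : ↥(V ⊔ K))) (y := ⟨v, mem_sup_left hv⟩) (i := i) (j := j)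
    (Subtype.ext (congrArg Subtype.val hi : k ^ r ^ i = 1))
    (Subtype.ext (congrArg Subtype.val hj : v ^ s ^ j = 1))
  exact congrArg Subtype.val this

/-- If the fixed points of `c` are centralised by `V`, then all of `K` is. -/
theorem free {q r s : ℕ} [Fact q.Prime] [Fact r.Prime] [Fact s.Prime] (hrs : r ≠ s) (hrq : r ≠ q) :
    ∀ (n : ℕ) (X : Type u) [Group X] [Finite X] (V K : Subgroup X) (c : X), Nat.card K = n →
      IsPGroup r K → IsPGroup s V → V ≤ normalizer (K : Set X) → c ^ q = 1 →
      c ∈ normalizer (V : Set X) → c ∈ normalizer (K : Set X) →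
      V ⊓ centralizer ({c} : Set X) = ⊥ →
      K ⊓ centralizer ({c} : Set X) ≤ centralizer (V : Set X) →
      V ≤ centralizer (K : Set X) := by
  intro n
  induction n using Nat.strong_induction_on with
  | _ n ih =>
    intro X _ _ V K c hn hK hV hVK hc hcV hcK hfV hfK
    subst hn
    have hco : (Nat.card V).Coprime (Nat.card K) := (pgroup_coprime hrs hK hV).symm
    haveI := hK.isNilpotent
    haveI := hV.isNilpotent
    have hKs : Group.IsSolvable K := inferInstance
    set D := ⁅K, V⁆ with hD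
    have hDK : D ≤ K := Grp.commutator_le_left_of_le_normalizer hVK
    rcases lt_or_eq_of_le hDK with hlt | heq
    · have h1 := ih _ (Set.ncard_lt_ncard hlt) X V D c rfl (hK.to_le hDK) hV
        (Grp.right_le_normalizer_commutator V K) hc hcV
        (Grp.le_normalizer_commutator' (zpowers_le.mpr hcK) (zpowers_le.mpr hcV) (mem_zpowers c))
        hfV ((inf_le_inf_right _ hDK).trans hfK)
      have h2 : ⁅D, V⁆ = ⊥ := commutator_eq_bot_iff_le_centralizer.mpr (le_centralizer_iff.mp h1)
      rw [hD, Grp.commutator_commutator_eq V K hVK hco (.inr hKs)] at h2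
      exact le_centralizer_iff.mp (commutator_eq_bot_iff_le_centralizer.mp h2)
    · rcases eq_or_ne K ⊥ with hK0 | hK0
      · subst hK0
        exact fun v _ => mem_centralizer_iff.mpr fun g hg => by
          rw [mem_bot.mp hg]; simp
      set N := ⁅K, K⁆ with hN
      have hNK : N < K := Grp.commutator_lt_self_of_solvable hKs hK0
      have hVN : V ≤ normalizer (N : Set X) := Grp.le_normalizer_commutator' hVK hVK
      have hcN : c ∈ normalizer (N : Set X) :=
        Grp.le_normalizer_commutator' (zpowers_le.mpr hcK) (zpowers_le.mpr hcK) (mem_zpowers c)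
      have hKN : K ≤ normalizer (N : Set X) := Grp.le_normalizer_commutator' le_normalizer le_normalizer
      have hVcN : V ≤ centralizer (N : Set X) := ih _ (Set.ncard_lt_ncard hNK) X V N c rfl
        (hK.to_le hNK.le) hV hVN hc hcV hcN hfV ((inf_le_inf_right _ hNK.le).trans hfK)
      exfalso
      refine hNK.not_ge ?_
      rw [← heq, hD, commutator_le]
      intro k hk v hv
      let M := normalizer (N : Set X)
      haveI hNn : (N.subgroupOf M).Normal :=
        (normal_subgroupOf_iff_le_normalizer (hNK.le.trans hKN)).mpr le_rfl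
      let π := QuotientGroup.mk' (N.subgroupOf M)
      have hπ : ∀ x : M, π x = 1 ↔ (x : X) ∈ N := fun x => by
        rw [QuotientGroup.mk'_apply, QuotientGroup.eq_one_iff, mem_subgroupOf]
      set V' := (V.subgroupOf M).map π with hV'
      set K' := (K.subgroupOf M).map π with hK'
      set c' := π ⟨c, hcN⟩ with hc'
      have hK'p : IsPGroup r K' := (hK.comap_subtype (K := M)).map π
      have hV'p : IsPGroup s V' := (hV.comap_subtype (K := M)).map π
      have hnorm : ∀ (U : Subgroup X) (g : M), (g : X) ∈ normalizer (U : Set X) →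
          π g ∈ normalizer (((U.subgroupOf M).map π : Subgroup _) : Set _) := by
        intro U g hg
        refine le_normalizer_of_conj (A := zpowers (π g)) ?_ (mem_zpowers _)
        rintro a ⟨i, rfl⟩ x ⟨y, hy, rfl⟩
        refine ⟨g ^ i * y * (g ^ i)⁻¹, ?_, by simp [map_zpow]⟩
        rw [SetLike.mem_coe, mem_subgroupOf] at hy ⊢
        simpa using Grp.mem_conj_normalizer (zpow_mem hg i) hy
      haveI : IsMulCommutative K' := ⟨⟨by
        rintro ⟨_, a, ha, rfl⟩ ⟨_, b, hb, rfl⟩
        refine Subtype.ext (commutatorElement_eq_one_iff_mul_comm.mp ?_)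
        rw [← map_commutatorElement, hπ]
        exact commutator_mem_commutator (mem_subgroupOf.mp ha) (mem_subgroupOf.mp hb)⟩⟩
      have hV'K' : V' ≤ normalizer (K' : Set _) := by
        rintro _ ⟨a, ha, rfl⟩
        exact hnorm K a (hVK (mem_subgroupOf.mp ha))
      have hfix : ∀ x : M, Commute (π x) c' → c * (x : X) * c⁻¹ * (x : X)⁻¹ ∈ N := by
        intro x hx
        have : π (⟨c, hcN⟩ * x * (⟨c, hcN⟩ : M)⁻¹ * x⁻¹) = 1 := by
          rw [map_mul, map_mul, map_mul, map_inv, map_inv, ← hc']
          rw [← hx.eq]; group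
        simpa using (hπ _).mp this
      have hfV' : V' ⊓ centralizer ({c'} : Set _) = ⊥ := by
        rw [eq_bot_iff]
        rintro x ⟨⟨a, ha, rfl⟩, hx⟩
        have ha' : (a : X) ∈ V := mem_subgroupOf.mp ha
        have h1 := hfix a (cmem.mp hx)
        have h2 : c * (a : X) * c⁻¹ * (a : X)⁻¹ ∈ V :=
          V.mul_mem (Grp.mem_conj_normalizer hcV ha') (V.inv_mem ha')
        have h3 : c * (a : X) * c⁻¹ * (a : X)⁻¹ = 1 := by
          have hb : V ⊓ K = ⊥ := inf_eq_bot_of_coprime hco
          exact mem_bot.mp (hb.le ⟨h2, hNK.le h1⟩)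
        have h4 : (a : X) = 1 := mem_bot.mp (hfV.le ⟨ha', cmem.mpr
          (mul_inv_eq_iff_eq_mul.mp (mul_inv_eq_one.mp h3)).symm⟩)
        rw [show a = 1 from Subtype.ext h4, map_one]
        exact one_mem _
      have hD' : ⁅K', V'⁆ = K' := by
        rw [hK', hV', ← map_commutator]
        refine congrArg (Subgroup.map π) (map_injective M.subtype_injective ?_)
        rw [map_commutator, map_subgroupOf_eq_of_le hVN, map_subgroupOf_eq_of_le hKN]
        exact heq
      have hfK' : K' ⊓ centralizer ({c'} : Set _) = ⊥ := by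
        rw [eq_bot_iff]
        rintro x ⟨⟨a, ha, rfl⟩, hx⟩
        have ha' : (a : X) ∈ K := mem_subgroupOf.mp ha
        have h1 := hfix a (cmem.mp hx)
        have hcop : (Nat.card (zpowers c)).Coprime (Nat.card K) := by
          rw [Nat.card_zpowers]
          obtain ⟨i, hi⟩ := IsPGroup.iff_card.mp hK
          rw [hi]
          exact (Nat.Coprime.pow_right i ((Nat.coprime_primes Fact.out Fact.out).mpr hrq.symm)
            ).coprime_dvd_left (orderOf_dvd_of_pow_eq_one hc)
        have hcopN : (Nat.card (zpowers c)).Coprime (Nat.card N) :=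
          hcop.coprime_dvd_right (card_dvd_of_le hNK.le)
        obtain ⟨d, hd, hkd⟩ := Grp.exists_fixed_rep (zpowers c) K N (zpowers_le.mpr hcK)
          (inf_eq_bot_of_coprime hcop) hcopN
          (.inr (Group.isSolvable_of_isSolvable_injective (f := inclusion hNK.le)
            (inclusion_injective hNK.le))) hNK.le hKN (zpowers_le.mpr hcN) ha' (by
            rintro _ ⟨i, rfl⟩
            have : π (⟨c, hcN⟩ ^ i * a * ((⟨c, hcN⟩ : M) ^ i)⁻¹ * a⁻¹) = 1 := by
              rw [map_mul, map_mul, map_mul, map_inv, map_inv, map_zpow, ← hc']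
              rw [((cmem.mp hx).zpow_right i).eq.symm]
              group
            simpa using (hπ _).mp this)
        have hdV : d ∈ centralizer (V : Set X) := hfK ⟨hd.1, cmem.mpr
          (mem_centralizer_iff.mp hd.2 c (mem_zpowers c)).symm⟩
        have haV : (a : X) ∈ centralizer (V : Set X) := by
          have hz : (a : X)⁻¹ * d ∈ centralizer (V : Set X) :=
            le_centralizer_iff.mp hVcN hkd
          simpa using (centralizer (V : Set X)).mul_mem hdV ((centralizer (V : Set X)).inv_mem hz)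
        have hin : π a ∈ (K' ⊓ centralizer (V' : Set _)) ⊓ ⁅K', V'⁆ := by
          refine ⟨⟨⟨a, ha, rfl⟩, mem_centralizer_iff.mpr ?_⟩, hD'.symm ▸ ⟨a, ha, rfl⟩⟩
          rintro _ ⟨w, hw, rfl⟩
          rw [← map_mul, ← map_mul]
          exact congrArg π (Subtype.ext (mem_centralizer_iff.mp haV w (mem_subgroupOf.mp hw)))
        rw [Grp.abelian_commutator_inf_fixed V' K' hV'K' (pgroup_coprime hrs hK'p hV'p).symm] at hin
        exact hin
      have hcom := commute_of_fpf (q := q) hrs hK'p hV'p hV'K' (c := c')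
        (by rw [hc', ← map_pow]; exact (hπ _).mpr (by simp [hc]))
        (hnorm V _ hcV) (hnorm K _ hcK) hfV' hfK'
      have h := mem_centralizer_iff.mp (hcom ⟨⟨v, hVN hv⟩, mem_subgroupOf.mpr hv, rfl⟩)
        (π ⟨k, hKN hk⟩) ⟨⟨k, hKN hk⟩, mem_subgroupOf.mpr hk, rfl⟩
      have h2 : π ⁅(⟨k, hKN hk⟩ : M), (⟨v, hVN hv⟩ : M)⁆ = 1 := by
        rw [map_commutatorElement]
        exact commutatorElement_eq_one_iff_mul_comm.mpr h
      simpa [commutatorElement_def] using (hπ _).mp h2

end Cfsg.Agent.Block.WardQSq
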