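import Cfsg.Agent.Lib.Grp.Coprime
import Cfsg.Agent.Lib.Grp.CoprimeAbelian
import Cfsg.Agent.Lib.Grp.CoprimeHall
import Cfsg.Agent.Lib.Grp.FpfWard
import Cfsg.Agent.Lib.Grp.Signalizer

/-!
A minimal configuration for coprime operators of order `q ^ 2` with abelian fixed-point groups.
-/

set_option autoImplicit false
set_option linter.unusedSectionVars false
set_option linter.style.haveILetI false

namespace Cfsg.Agent.Block.WardQSq

open Subgroup
open scoped commutatorElement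

universe u

variable {X : Type u} [Group X]

theorem cmem {x a : X} : x ∈ centralizer ({a} : Set X) ↔ Commute x a := by
  rw [mem_centralizer_singleton_iff]
  rfl

theorem le_normalizer_of_conj {A H : Subgroup X} (h : ∀ a ∈ A, ∀ x ∈ H, a * x * a⁻¹ ∈ H) :
    A ≤ normalizer (H : Set X) :=
  Grp.PiHall.le_normalizer_of_conj_mem h

theorem inv_inf {A H K : Subgroup X} (h : A ≤ normalizer (H : Set X))
    (k : A ≤ normalizer (K : Set X)) : A ≤ normalizer ((H ⊓ K : Subgroup X) : Set X) :=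
  le_normalizer_of_conj fun _ ha _ hx =>
    ⟨Grp.mem_conj_normalizer (h ha) hx.1, Grp.mem_conj_normalizer (k ha) hx.2⟩

theorem inv_sup {A H K : Subgroup X} (h : A ≤ normalizer (H : Set X))
    (k : A ≤ normalizer (K : Set X)) : A ≤ normalizer ((H ⊔ K : Subgroup X) : Set X) :=
  le_normalizer_of_conj fun a ha x hx => by
    have hle : H ⊔ K ≤ (H ⊔ K).comap (MulAut.conj a).toMonoidHom := sup_le
      (fun y hy => mem_sup_left (Grp.mem_conj_normalizer (h ha) hy))
      (fun y hy => mem_sup_right (Grp.mem_conj_normalizer (k ha) hy))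
    exact hle hx

theorem inv_centralizer {A K : Subgroup X} (h : A ≤ normalizer (K : Set X)) :
    A ≤ normalizer ((centralizer (K : Set X) : Subgroup X) : Set X) :=
  le_normalizer_of_conj fun a ha x hx => mem_centralizer_iff.mpr fun k hk => by
    have h1 := mem_centralizer_iff.mp hx _ (Grp.mem_conj_normalizer' (h ha) hk)
    calc k * (a * x * a⁻¹) = a * (a⁻¹ * k * a * x) * a⁻¹ := by group
      _ = a * (x * (a⁻¹ * k * a)) * a⁻¹ := by rw [h1]
      _ = a * x * a⁻¹ * k := by group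

theorem inv_normalizer {A K : Subgroup X} (h : A ≤ normalizer (K : Set X)) :
    A ≤ normalizer ((normalizer (K : Set X) : Subgroup X) : Set X) := h.trans le_normalizer

/-- The configuration: a minimal counterexample `G` with operator group `A`. -/
structure Ctx [Finite X] (q : ℕ) (G A : Subgroup X) : Prop where
  hq : q.Prime
  hG : A ≤ normalizer (G : Set X)
  hA : Cfsg.IsElementaryAbelian q A
  hcard : Nat.card A = q ^ 2
  hcop : ¬ q ∣ Nat.card G
  fix : G ⊓ centralizer (A : Set X) = ⊥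
  ab : ∀ a ∈ A, a ≠ 1 → ∀ x ∈ G, ∀ y ∈ G, Commute x a → Commute y a → Commute x y
  sol : ∀ H : Subgroup X, H ≤ G → A ≤ normalizer (H : Set X) → H ≠ G → Group.IsSolvable H
  minN : ∀ N : Subgroup X, N ≤ G → A ≤ normalizer (N : Set X) → G ≤ normalizer (N : Set X) →
    N = ⊥ ∨ N = G
  ns : ¬ Group.IsSolvable G

namespace Ctx

variable [Finite X] {q : ℕ} {G A : Subgroup X} (S : Ctx q G A)
include S

theorem commA : IsMulCommutative A := S.hA.1

theorem solA : Group.IsSolvable A := by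
  haveI := S.hA.1
  exact Group.isSolvable_of_comm mul_comm'

theorem cop {H : Subgroup X} (h : H ≤ G) : (Nat.card A).Coprime (Nat.card H) := by
  rw [S.hcard]
  exact Nat.Coprime.pow_left _ (S.hq.coprime_iff_not_dvd.mpr
    fun hd => S.hcop (hd.trans (card_dvd_of_le h)))

theorem hAG : A ≤ normalizer (G : Set X) := S.hG

theorem orderOf_a {a : X} (ha : a ∈ A) (ha1 : a ≠ 1) : orderOf a = q := by
  haveI := Fact.mk S.hq
  exact orderOf_eq_prime (S.hA.2 a ha) ha1

theorem card_zpowers_lt {a : X} (ha : a ∈ A) : zpowers a < A := by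
  refine lt_of_le_of_ne (zpowers_le.mpr ha) fun e => ?_
  have h : Nat.card (zpowers a) = q ^ 2 := by rw [e, S.hcard]
  have h1 : orderOf a ∣ q := orderOf_dvd_of_pow_eq_one (S.hA.2 a ha)
  rw [Nat.card_zpowers] at h
  have := Nat.le_of_dvd S.hq.pos h1
  have := S.hq.two_le
  nlinarith

theorem not_cyclic : ¬ IsCyclic A := fun h => by
  obtain ⟨g, hg⟩ := h.exists_generator
  refine (S.card_zpowers_lt g.2).not_ge fun x hx => ?_
  obtain ⟨k, hk⟩ := mem_zpowers_iff.mp (hg ⟨x, hx⟩)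
  exact mem_zpowers_iff.mpr ⟨k, by simpa using congrArg Subtype.val hk⟩

/-- An element of `A` outside two given cyclic subgroups. -/
theorem exists_outside {b c : X} (hb : b ∈ A) (hc : c ∈ A) :
    ∃ e ∈ A, e ∉ zpowers b ∧ e ∉ zpowers c := by
  obtain ⟨x, hx, hxb⟩ := SetLike.exists_of_lt (S.card_zpowers_lt hb)
  obtain ⟨y, hy, hyc⟩ := SetLike.exists_of_lt (S.card_zpowers_lt hc)
  by_cases hxc : x ∈ zpowers c
  · by_cases hyb : y ∈ zpowers b
    · refine ⟨x * y, A.mul_mem hx hy, fun h => hxb ?_, fun h => hyc ?_⟩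
      · exact ((zpowers b).mul_mem_cancel_right hyb).mp h
      · exact ((zpowers c).mul_mem_cancel_left hxc).mp h
    · exact ⟨y, hy, hyb, hyc⟩
  · exact ⟨x, hx, hxb, hxc⟩

theorem ne_one_of_outside {b e : X} (h : e ∉ zpowers b) : e ≠ 1 := fun h1 =>
  h (h1 ▸ (zpowers b).one_mem)

/-- Two distinct cyclic subgroups of order `q` meet trivially. -/
theorem not_mem_both {a b c : X} (ha : a ∈ A) (ha1 : a ≠ 1) (hb : b ∈ A) (hc : c ∈ A)
    (hcb : c ∉ zpowers b) : a ∉ zpowers b ∨ a ∉ zpowers c := by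
  by_contra! h
  have eq : ∀ d ∈ A, a ∈ zpowers d → zpowers a = zpowers d := fun d hd had => by
    refine eq_of_le_of_card_ge (zpowers_le.mpr had) ?_
    rw [Nat.card_zpowers, Nat.card_zpowers, S.orderOf_a ha ha1]
    exact Nat.le_of_dvd S.hq.pos (orderOf_dvd_of_pow_eq_one (S.hA.2 d hd))
  exact hcb ((eq b hb h.1) ▸ (eq c hc h.2).symm ▸ mem_zpowers c)

theorem fix_two {a c x : X} (hx : x ∈ G) (ha : a ∈ A) (ha1 : a ≠ 1) (hc : c ∈ A)
    (hca : c ∉ zpowers a) (h1 : Commute x a) (h2 : Commute x c) : x = 1 := by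
  haveI := Fact.mk S.hq
  have hle : A ≤ centralizer ({x} : Set X) :=
    Grp.elemAb_le_of_two S.hA S.hcard ha ha1 hc hca (cmem.mpr h1.symm) (cmem.mpr h2.symm)
  refine mem_bot.mp (S.fix.le ⟨hx, mem_centralizer_iff.mpr fun g hg => ?_⟩)
  exact (cmem.mp (hle hg)).eq

/-- The fixed points of an operator are invariant. -/
theorem inv_fixed {a : X} (ha : a ∈ A) : A ≤ normalizer ((centralizer ({a} : Set X) : Subgroup X) : Set X) :=
  le_normalizer_of_conj fun d hd x hx => by
    haveI := Fact.mk S.hq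
    rw [cmem] at hx ⊢
    have hda : Commute d a := Grp.elemAb_comm S.hA d hd a ha
    exact (hda.mul_left hx).mul_left hda.inv_left

theorem inv_line {H : Subgroup X} (hH : A ≤ normalizer (H : Set X)) {a : X} (ha : a ∈ A) :
    A ≤ normalizer ((H ⊓ centralizer ({a} : Set X) : Subgroup X) : Set X) :=
  inv_inf hH (S.inv_fixed ha)

theorem le_of_lines {H T : Subgroup X} (hH : H ≤ G) (hAH : A ≤ normalizer (H : Set X))
    (h : ∀ a ∈ A, a ≠ 1 → H ⊓ centralizer ({a} : Set X) ≤ T) : H ≤ T := by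
  haveI := S.commA
  rw [← Grp.generated_by_centralizers A H S.not_cyclic hAH (S.cop hH)]
  exact iSup₂_le fun a ha => h a ha.1 ha.2

theorem exists_line {H : Subgroup X} (hH : H ≤ G) (hAH : A ≤ normalizer (H : Set X)) (h : H ≠ ⊥) :
    ∃ a ∈ A, a ≠ 1 ∧ H ⊓ centralizer ({a} : Set X) ≠ ⊥ := by
  by_contra! hc
  exact h (eq_bot_iff.mpr (S.le_of_lines hH hAH fun a ha ha1 => (hc a ha ha1).le))

theorem fixed_eq_bot {H : Subgroup X} (hH : H ≤ G) : H ⊓ centralizer (A : Set X) = ⊥ :=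
  eq_bot_iff.mpr ((inf_le_inf_right _ hH).trans S.fix.le)

/-- The `A`-invariant Sylow subgroup. -/
theorem exists_syl (r : ℕ) [Fact r.Prime] :
    ∃ R, Grp.IsSylowIn r R G ∧ A ≤ normalizer (R : Set X) :=
  Grp.exists_invariant_sylow A G S.hAG (S.cop le_rfl) (.inl S.solA) r

theorem le_syl {r : ℕ} [Fact r.Prime] {R U : Subgroup X} (hR : Grp.IsSylowIn r R G)
    (hAR : A ≤ normalizer (R : Set X)) (hU : U ≤ G) (hUr : IsPGroup r U)
    (hAU : A ≤ normalizer (U : Set X)) : U ≤ R := by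
  obtain ⟨Y, hY, hAY, hUY⟩ :=
    Grp.exists_invariant_sylow_ge A G S.hAG (S.cop le_rfl) (.inl S.solA) hU hUr hAU
  obtain ⟨c, hc, e⟩ := Grp.invariant_sylow_conj A G S.hAG (S.cop le_rfl) (.inl S.solA) hY hR hAY hAR
  rw [S.fix, mem_bot] at hc
  subst hc
  rw [map_one, one_smul] at e
  exact e ▸ hUY

theorem sylowIn_inf {r : ℕ} [Fact r.Prime] {R H : Subgroup X} (hR : Grp.IsSylowIn r R G)
    (hAR : A ≤ normalizer (R : Set X)) (hH : H ≤ G) (hAH : A ≤ normalizer (H : Set X)) :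
    Grp.IsSylowIn r (H ⊓ R) H := by
  obtain ⟨Y, hY, hAY⟩ := Grp.exists_invariant_sylow A H hAH (S.cop hH) (.inl S.solA) r
  have hle : Y ≤ H ⊓ R := le_inf hY.1 (S.le_syl hR hAR (hY.1.trans hH) hY.2.1 hAY)
  rwa [← hY.eq_of_le hle inf_le_left (hR.2.1.to_le inf_le_right)]

theorem normalizer_ne {U : Subgroup X} (hU : U ≤ G) (hAU : A ≤ normalizer (U : Set X))
    (h0 : U ≠ ⊥) (h1 : U ≠ G) : G ⊓ normalizer (U : Set X) ≠ G := fun e =>
  (S.minN U hU hAU (inf_eq_left.mp e)).elim h0 h1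

theorem inv_normalizer_inf {U : Subgroup X} (hAU : A ≤ normalizer (U : Set X)) :
    A ≤ normalizer ((G ⊓ normalizer (U : Set X) : Subgroup X) : Set X) :=
  inv_inf S.hAG (inv_normalizer hAU)

theorem not_isPGroup {r : ℕ} [Fact r.Prime] : ¬ IsPGroup r G := fun h => S.ns (by
  haveI := h.isNilpotent
  infer_instance)

end Ctx

end Cfsg.Agent.Block.WardQSq
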