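import Cfsg.Agent.Lib.Block.WardQSq.Lines
import Cfsg.Agent.Lib.Grp.HallConverse

/-!
Solvability of a group with coprime operators of order `q ^ 2` and abelian fixed-point groups.
-/

set_option autoImplicit false
set_option linter.unusedSectionVars false
set_option linter.style.haveILetI false

namespace Cfsg.Agent.Block.WardQSq

open Subgroup
open scoped commutatorElement Pointwise

universe u

variable {X : Type u} [Group X]

/-- The fixed points of a non-trivial element of a cyclic subgroup of prime order. -/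
theorem Ctx.line_mono [Finite X] {q : ℕ} {G A : Subgroup X} (C : Ctx q G A) {a b : X} (ha : a ∈ A)
    (ha1 : a ≠ 1) (hb : b ∈ A) (hab : a ∈ zpowers b) :
    centralizer ({a} : Set X) ≤ centralizer ({b} : Set X) := by
  have e : zpowers a = zpowers b := eq_of_le_of_card_ge (zpowers_le.mpr hab) (by
    rw [Nat.card_zpowers, Nat.card_zpowers, C.orderOf_a ha ha1]
    exact Nat.le_of_dvd C.hq.pos (orderOf_dvd_of_pow_eq_one (C.hA.2 b hb)))
  obtain ⟨i, hi⟩ := mem_zpowers_iff.mp (e ▸ mem_zpowers b : b ∈ zpowers a)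
  intro x hx
  rw [cmem] at hx ⊢
  exact hi ▸ hx.zpow_right i

namespace Pair

variable [Finite X] {q r s : ℕ} {G A R Q : Subgroup X} (P : Pair q G A r s R Q)
include P

theorem not_norm : ¬ R ≤ normalizer (Q : Set X) := fun h => by
  refine P.perm (R ⊔ Q) ⟨sup_le P.hR.1 P.hQ.1, inv_sup P.hAR P.hAQ, fun t ht hd => ?_⟩
    le_sup_left le_sup_right
  haveI := P.fr; haveI := P.fs
  have hd' : Nat.card ↥(R ⊔ Q) ∣ Nat.card R * Nat.card Q := by
    have hc : Nat.card ↥(R ⊔ Q) = Nat.card R * Nat.card Q := by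
      rw [← Nat.card_prod]
      refine Nat.card_congr (Equiv.symm (Equiv.ofBijective
        (fun x : R × Q => (⟨(x.1 : X) * x.2, mul_mem_sup x.1.2 x.2.2⟩ : ↥(R ⊔ Q)))
        ⟨fun x y e => ?_, fun x => ?_⟩))
      · exact mul_injective_of_disjoint (disjoint_iff.mpr P.inf_bot) (congrArg Subtype.val e)
      · obtain ⟨a, ha, b, hb, e⟩ : (x : X) ∈ (R : Set X) * (Q : Set X) := by
          rw [← coe_mul_of_left_le_normalizer_right R Q h]; exact x.2
        exact ⟨(⟨a, ha⟩, ⟨b, hb⟩), Subtype.ext e⟩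
    rw [hc]
  rcases ht.dvd_mul.mp (hd.trans hd') with h1 | h1
  · obtain ⟨k, hk⟩ := IsPGroup.iff_card.mp P.hR.2.1
    exact .inl ((Nat.prime_dvd_prime_iff_eq ht P.hr).mp (ht.dvd_of_dvd_pow (hk ▸ h1)))
  · obtain ⟨k, hk⟩ := IsPGroup.iff_card.mp P.hQ.2.1
    exact .inr ((Nat.prime_dvd_prime_iff_eq ht P.hs).mp (ht.dvd_of_dvd_pow (hk ▸ h1)))

theorem R_ne_bot : R ≠ ⊥ := fun e => P.not_norm (e ▸ bot_le)

theorem dvd_card_r : r ∣ Nat.card G := by
  haveI := P.fr
  haveI := (nontrivial_iff_ne_bot R).mpr P.R_ne_bot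
  obtain ⟨m, hm0, hm⟩ := P.hR.2.1.nontrivial_iff_card.mp inferInstance
  exact ((dvd_pow_self r hm0.ne').trans hm.symm.dvd).trans (card_dvd_of_le P.hR.1)

theorem r_ne_q : r ≠ q := fun e => P.ctx.hcop (e ▸ P.dvd_card_r)

theorem sylow_ne_G {U : Subgroup X} (hU : U ≤ R) : U ≠ G := fun e => by
  haveI := P.fr
  exact P.ctx.not_isPGroup (r := r) (e ▸ P.hR.2.1.to_le hU)

/-- The centraliser of an invariant non-trivial subgroup of `R` is proper. -/
theorem cent_ne_G {U : Subgroup X} (hUR : U ≤ R) (hAU : A ≤ normalizer (U : Set X)) (h0 : U ≠ ⊥) :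
    G ⊓ centralizer (U : Set X) ≠ G := fun e =>
  (P.ctx.minN U (hUR.trans P.hR.1) hAU
    ((inf_eq_left.mp e).trans (Subgroup.centralizer_le_normalizer _))).elim h0 (P.sylow_ne_G hUR)

/-- An operator whose two lines move both Sylow subgroups gives a contradiction. -/
theorem member {a : X} (ha : a ∈ A) (ha1 : a ≠ 1)
    (h1 : ¬ R ⊓ centralizer ({a} : Set X) ≤ normalizer (Q : Set X))
    (h2 : ¬ Q ⊓ centralizer ({a} : Set X) ≤ normalizer (R : Set X)) : False := by
  have hAU : A ≤ normalizer ((R ⊓ centralizer ({a} : Set X) : Subgroup X) : Set X) :=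
    P.ctx.inv_line P.hAR ha
  obtain ⟨H, hH, -, hR, hQ⟩ := P.hall inf_le_left (inv_inf P.ctx.hAG (inv_centralizer hAU))
    (P.cent_ne_G inf_le_left hAU fun e => h1 (e ▸ bot_le))
  rcases P.dich hH with h | h
  · exact h2 (le_trans (fun x hx => hQ ⟨⟨P.hQ.1 hx.1, P.ctx.line_comm ha ha1 P.hR.1 P.hQ.1 hx⟩, hx.1⟩) h)
  · exact h1 (le_trans (fun x hx => hR ⟨⟨P.hR.1 hx.1, P.ctx.line_comm ha ha1 P.hR.1 P.hR.1 hx⟩, hx.1⟩) h)

/-- No non-trivial element of `Q` centralises `R`. -/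
theorem faithful : Q ⊓ centralizer (R : Set X) = ⊥ := by
  haveI := P.fr; haveI := P.fs
  obtain ⟨H, hH, -, hR, hQ⟩ := P.hall inf_le_left (P.ctx.inv_normalizer_inf P.hAR)
    (P.ctx.normalizer_ne P.hR.1 P.hAR P.R_ne_bot (P.sylow_ne_G le_rfl))
  obtain ⟨M, hM, hle⟩ := P.exists_max hH
  have hRM : R ≤ M := fun x hx => hle (hR ⟨⟨P.hR.1 hx, le_normalizer hx⟩, hx⟩)
  have hMR : M ≤ normalizer (R : Set X) :=
    (P.dich hM.1).elim id fun h => (P.not_norm (hRM.trans h)).elim
  have hcore : R ≤ Cfsg.pCoreOf r M := Invol.lg_le_pCoreOf hRM hMR P.hR.2.1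
  have hQM : Q ⊓ centralizer (R : Set X) ≤ M ⊓ Q := le_inf (fun x hx =>
    hle (hQ ⟨⟨P.hQ.1 hx.1, Subgroup.centralizer_le_normalizer _ hx.2⟩, hx.1⟩)) inf_le_left
  have h := P.le_core hM.1 hQM (inf_le_right.trans
    (centralizer_le ((P.core_le hM.1).trans inf_le_right)))
  by_contra h0
  exact P.max_false hM (fun e => P.R_ne_bot (eq_bot_iff.mpr (e ▸ hcore)))
    fun e => h0 (eq_bot_iff.mpr (e ▸ h))

/-- If `Q` has a part normalising `R`, all lines of `R` but one move `Q`. -/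
theorem active (h : Q ⊓ normalizer (R : Set X) ≠ ⊥) :
    ∃ b ∈ A, b ≠ 1 ∧ ∀ c ∈ A, c ∉ zpowers b →
      ¬ R ⊓ centralizer ({c} : Set X) ≤ normalizer (Q : Set X) := by
  haveI := P.fr; haveI := P.fs; haveI := Fact.mk P.ctx.hq
  set S := Q ⊓ normalizer (R : Set X) with hS
  have hAS : A ≤ normalizer (S : Set X) := inv_inf P.hAQ (inv_normalizer P.hAR)
  obtain ⟨b, hb, hb1, hne⟩ := P.ctx.exists_line (inf_le_left.trans P.hQ.1) hAS h
  refine ⟨b, hb, hb1, fun c hc hcb hcQ => hne ?_⟩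
  set V := S ⊓ centralizer ({b} : Set X) with hV
  have hVQ : V ≤ Q := inf_le_left.trans inf_le_left
  have hfV : V ⊓ centralizer ({c} : Set X) = ⊥ := eq_bot_iff.mpr fun x hx => mem_bot.mpr
    (P.ctx.fix_two (P.hQ.1 (hVQ hx.1)) hb hb1 hc hcb (cmem.mp hx.1.2) (cmem.mp hx.2))
  have hcom : R ⊓ centralizer ({c} : Set X) ≤ centralizer (V : Set X) := fun x hx =>
    mem_centralizer_iff.mpr fun y hy =>
      (comm_bot hx.1 (hVQ hy) (hcQ hx) hy.1.2 P.inf_bot).symm.eq
  have hVR : V ≤ centralizer (R : Set X) := free (q := q) P.hrs P.r_ne_q _ X V R c rfl P.hR.2.1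
    (P.hQ.2.1.to_le hVQ) (inf_le_left.trans inf_le_right) (P.ctx.hA.2 c hc)
    (P.ctx.inv_line hAS hb hc) (P.hAR hc) hfV hcom
  exact eq_bot_iff.mpr ((le_inf hVQ hVR).trans P.faithful.le)

theorem both_active_false (h : R ⊓ normalizer (Q : Set X) ≠ ⊥)
    (h' : Q ⊓ normalizer (R : Set X) ≠ ⊥) : False := by
  obtain ⟨b, hb, -, hb'⟩ := P.active h'
  obtain ⟨c, hc, -, hc'⟩ := P.swap.active h
  obtain ⟨e, he, heb, hec⟩ := P.ctx.exists_outside hb hc
  exact P.member he (Ctx.ne_one_of_outside P.ctx heb) (hb' e he heb) (hc' e he hec)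

theorem one_active_false (h : R ⊓ normalizer (Q : Set X) = ⊥)
    (h' : Q ⊓ normalizer (R : Set X) ≠ ⊥) : False := by
  haveI := P.fr; haveI := P.fs; haveI := Fact.mk P.ctx.hq
  obtain ⟨b, hb, hb1, hb'⟩ := P.active h'
  have hQ0 : Q ≠ ⊥ := fun e => h' (eq_bot_iff.mpr (e ▸ inf_le_left))
  have hZ : A ≤ normalizer ((zc Q : Subgroup X) : Set X) := P.hAQ.trans (normalizer_le_zc Q)
  obtain ⟨a, ha, ha1, hne⟩ := P.ctx.exists_line ((zc_le Q).trans P.hQ.1) hZ
    (zc_ne_bot P.hQ.2.1 hQ0)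
  set Za := zc Q ⊓ centralizer ({a} : Set X) with hZa
  have hAZ : A ≤ normalizer (Za : Set X) := P.ctx.inv_line hZ ha
  have hZQ : Za ≤ Q := inf_le_left.trans (zc_le Q)
  obtain ⟨H, hH, -, hR, hQ⟩ := P.hall inf_le_left (inv_inf P.ctx.hAG (inv_centralizer hAZ))
    (P.swap.cent_ne_G hZQ hAZ hne)
  have hQH : Q ≤ H := fun x hx => hQ ⟨⟨P.hQ.1 hx, mem_centralizer_iff.mpr fun z hz =>
    (mem_centralizer_iff.mp hz.1.2 x hx).symm⟩, hx⟩
  have hHQ : H ≤ normalizer (Q : Set X) :=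
    (P.dich hH).elim (fun k => (P.swap.not_norm (hQH.trans k)).elim) id
  have hRa : R ⊓ centralizer ({a} : Set X) ≤ normalizer (Q : Set X) := le_trans (fun x hx =>
    hR ⟨⟨P.hR.1 hx.1, P.ctx.line_comm ha ha1 ((zc_le Q).trans P.hQ.1) P.hR.1 hx⟩, hx.1⟩) hHQ
  have hab : a ∈ zpowers b := by_contra fun hn => hb' a ha hn hRa
  have hRb : R ⊓ centralizer ({b} : Set X) = ⊥ := by
    obtain ⟨i, hi⟩ := mem_zpowers_iff.mp hab
    rw [eq_bot_iff, ← h]
    refine le_inf inf_le_left (le_trans (fun x hx => ?_) hRa)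
    exact ⟨hx.1, cmem.mpr (hi ▸ (cmem.mp hx.2).zpow_right i)⟩
  refine P.ctx.single_line_false P.hQ P.hAQ P.swap.dvd_card_r hb hb1
    (P.ctx.le_of_lines P.hQ.1 P.hAQ fun c hc hc1 => ?_)
  by_cases hcb : c ∈ zpowers b
  · exact inf_le_right.trans (P.ctx.line_mono hc hc1 hb hcb)
  set V := Q ⊓ centralizer ({c} : Set X) with hV
  have hVN : V ≤ normalizer (R : Set X) := by_contra fun hn => P.member hc hc1 (hb' c hc hcb) hn
  have hfV : V ⊓ centralizer ({b} : Set X) = ⊥ := eq_bot_iff.mpr fun x hx => mem_bot.mpr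
    (P.ctx.fix_two (P.hQ.1 hx.1.1) hb hb1 hc hcb (cmem.mp hx.2) (cmem.mp hx.1.2))
  have hVR := commute_of_fpf (q := q) P.hrs P.hR.2.1 (P.hQ.2.1.to_le inf_le_left) hVN
    (P.ctx.hA.2 b hb) (P.ctx.inv_line P.hAQ hc hb) (P.hAR hb) hfV hRb
  exact ((le_inf inf_le_left hVR).trans P.faithful.le).trans bot_le

theorem none_active_false (h : R ⊓ normalizer (Q : Set X) = ⊥)
    (h' : Q ⊓ normalizer (R : Set X) = ⊥) (hr2 : r ≠ 2) : False := by
  haveI := P.fr; haveI := P.fs
  obtain ⟨b, hb, hb1, hb'⟩ := P.ctx.lines_odd hr2 P.hR P.hAR P.dvd_card_r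
  refine P.ctx.single_line_false P.hQ P.hAQ P.swap.dvd_card_r hb hb1
    (P.ctx.le_of_lines P.hQ.1 P.hAQ fun c hc hc1 => ?_)
  by_cases hcb : c ∈ zpowers b
  · exact inf_le_right.trans (P.ctx.line_mono hc hc1 hb hcb)
  by_contra hn
  exact P.member hc hc1 (fun k => hb' c hc hcb (eq_bot_iff.mpr (h ▸ le_inf inf_le_left k)))
    fun k => hn ((le_inf inf_le_left k).trans (h'.le.trans bot_le))

theorem pair_false : False := by
  by_cases h : R ⊓ normalizer (Q : Set X) = ⊥ <;> by_cases h' : Q ⊓ normalizer (R : Set X) = ⊥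
  · by_cases hr2 : r = 2
    · exact P.swap.none_active_false h' h fun hs2 => P.hrs (hr2.trans hs2.symm)
    · exact P.none_active_false h h' hr2
  · exact P.one_active_false h h'
  · exact P.swap.one_active_false h' h
  · exact P.both_active_false h h'

end Pair

theorem mul_sylow_eq [Finite X] {r s : ℕ} [Fact r.Prime] [Fact s.Prime] (hrs : r ≠ s)
    {R Q H G A : Subgroup X} (hH : IsRS r s G A H) (hR : Grp.IsSylowIn r R G)
    (hQ : Grp.IsSylowIn s Q G) (hRH : R ≤ H) (hQH : Q ≤ H) :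
    (R : Set X) * (Q : Set X) = (H : Set X) := by
  have hco := pgroup_coprime hrs hR.2.1 hQ.2.1
  have hR' : Grp.IsSylowIn r R H := ⟨hRH, hR.2.1, fun hd => hR.2.2 (hd.trans
    (by rw [← relIndex_mul_relIndex R H G hRH hH.1]; exact dvd_mul_right _ _))⟩
  have hQ' : Grp.IsSylowIn s Q H := ⟨hQH, hQ.2.1, fun hd => hQ.2.2 (hd.trans
    (by rw [← relIndex_mul_relIndex Q H G hQH hH.1]; exact dvd_mul_right _ _))⟩
  have hd : Nat.card H ∣ Nat.card R * Nat.card Q := by
    refine (Nat.dvd_iff_prime_pow_dvd_dvd _ _).mpr fun p k hp hk => ?_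
    rcases Nat.eq_zero_or_pos k with rfl | hk0
    · simp
    have hle := (hp.pow_dvd_iff_le_factorization Nat.card_pos.ne').mp hk
    rcases hH.2.2 p hp ((dvd_pow_self p hk0.ne').trans hk) with rfl | rfl
    · exact dvd_mul_of_dvd_left (hR'.card ▸ pow_dvd_pow p hle) _
    · exact dvd_mul_of_dvd_right (hQ'.card ▸ pow_dvd_pow p hle) _
  refine Set.eq_of_subset_of_ncard_le ?_ ?_ (Set.toFinite _)
  · rintro _ ⟨a, ha, b, hb, rfl⟩
    exact H.mul_mem (hRH ha) (hQH hb)
  · refine le_trans (Nat.le_of_dvd (Nat.mul_pos Nat.card_pos Nat.card_pos) hd) ?_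
    rw [← Nat.card_prod, ← Nat.card_coe_set_eq ((R : Set X) * (Q : Set X))]
    exact Nat.card_le_card_of_injective
      (fun x : R × Q => (⟨(x.1 : X) * x.2, Set.mul_mem_mul x.1.2 x.2.2⟩ : ↥((R : Set X) * (Q : Set X))))
      fun x y e => mul_injective_of_disjoint (disjoint_iff.mpr (inf_eq_bot_of_coprime hco))
        (congrArg Subtype.val e)

theorem Ctx.false [Finite X] {q : ℕ} {G A : Subgroup X} (C : Ctx q G A) : False := by
  classical
  have hex : ∀ p : Nat.Primes, ∃ R, Grp.IsSylowIn (p : ℕ) R G ∧ A ≤ normalizer (R : Set X) :=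
    fun p => haveI := Fact.mk p.2; C.exists_syl p
  choose R hR hAR using hex
  have hS : ∀ p : Nat.Primes, ∃ P : Sylow (p : ℕ) G, (P : Subgroup G).map G.subtype = R p :=
    fun p => haveI := Fact.mk p.2; Grp.isSylowIn_iff.mp (hR p)
  choose S hS using hS
  refine C.ns (Grp.HallConv.isSolvable_of_sylowSystem S fun p t => ?_)
  rcases eq_or_ne p t with rfl | hpt
  · rfl
  haveI := Fact.mk p.2
  haveI := Fact.mk t.2
  have hne : (p : ℕ) ≠ t := fun e => hpt (Subtype.ext e)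
  obtain ⟨H, hH, h1, h2⟩ : ∃ H, IsRS (p : ℕ) t G A H ∧ R p ≤ H ∧ R t ≤ H := by
    by_contra! hc
    exact Pair.pair_false ⟨C, p.2, t.2, hne, hR p, hR t, hAR p, hAR t, fun H hH a b => hc H hH a b⟩
  have e1 := mul_sylow_eq hne hH (hR p) (hR t) h1 h2
  have e2 := mul_sylow_eq hne.symm hH.swap (hR t) (hR p) h2 h1
  refine Set.image_injective.mpr G.subtype_injective ?_
  rw [Set.image_mul, Set.image_mul]
  show (((S p : Subgroup G).map G.subtype : Subgroup X) : Set X) * ((S t : Subgroup G).map G.subtype : Subgroup X)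
    = ((S t : Subgroup G).map G.subtype : Subgroup X) * ((S p : Subgroup G).map G.subtype : Subgroup X)
  rw [hS, hS, e1, e2]

/-- The hypothesis passes to an image with kernel `N`. -/
theorem image_solvable [Finite X] {q : ℕ} (hq : q.Prime) {G A N : Subgroup X}
    (hAG : A ≤ normalizer (G : Set X)) (hA : Cfsg.IsElementaryAbelian q A) (hcard : Nat.card A = q ^ 2)
    (hcop : ¬ q ∣ Nat.card G)
    (hab : ∀ a ∈ A, a ≠ 1 → ∀ x ∈ G, ∀ y ∈ G, Commute x a → Commute y a → Commute x y)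
    (hNG : N ≤ G) (hAN : A ≤ normalizer (N : Set X)) (hGN : G ≤ normalizer (N : Set X))
    (hN0 : N ≠ ⊥) (hsN : Group.IsSolvable N)
    {M : Subgroup X} (hGM : G ≤ M) (hAM : A ≤ M) {Y : Type u} [Group Y] [Finite Y] (π : M →* Y)
    (hπ : ∀ x : M, π x = 1 ↔ (x : X) ∈ N)
    (ih : ∀ (Y : Type u) [Group Y] [Finite Y] (H B : Subgroup Y), Nat.card H < Nat.card G →
      B ≤ normalizer (H : Set Y) → Cfsg.IsElementaryAbelian q B → Nat.card B = q ^ 2 →
      ¬ q ∣ Nat.card H →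
      (∀ a ∈ B, a ≠ 1 → ∀ x ∈ H, ∀ y ∈ H, Commute x a → Commute y a → Commute x y) →
      Group.IsSolvable H) : Group.IsSolvable G := by
  haveI := Fact.mk hq
  have hcop' : ∀ H : Subgroup X, H ≤ G → (Nat.card A).Coprime (Nat.card H) := fun H h => by
    rw [hcard]
    exact Nat.Coprime.pow_left _ (hq.coprime_iff_not_dvd.mpr
      fun hd => hcop (hd.trans (card_dvd_of_le h)))
  set G' := (G.subgroupOf M).map π with hG'
  set A' := (A.subgroupOf M).map π with hA'
  have hGcard : Nat.card ↥(G.subgroupOf M) = Nat.card G :=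
    Nat.card_congr (subgroupOfEquivOfLe hGM).toEquiv
  have hAinj : ∀ x : M, (x : X) ∈ A → π x = 1 → x = 1 := fun x hxA hx => by
    have hb : A ⊓ N = ⊥ := inf_eq_bot_of_coprime (hcop' N hNG)
    exact Subtype.ext (mem_bot.mp (hb.le ⟨hxA, (hπ x).mp hx⟩))
  have hAcard : Nat.card A' = q ^ 2 := by
    rw [hA', ← hcard, ← Nat.card_congr (subgroupOfEquivOfLe hAM).toEquiv]
    refine (Nat.card_congr (Equiv.ofBijective
      (fun x : ↥(A.subgroupOf M) => (⟨π x, mem_map_of_mem π x.2⟩ : ↥((A.subgroupOf M).map π)))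
      ⟨fun x y e => ?_, fun x => ?_⟩)).symm
    · have e' : π x = π y := congrArg Subtype.val e
      refine Subtype.ext (inv_mul_eq_one.mp (hAinj _ (A.mul_mem (A.inv_mem (mem_subgroupOf.mp x.2))
        (mem_subgroupOf.mp y.2)) ?_))
      rw [map_mul, map_inv, e', inv_mul_cancel]
    · obtain ⟨y, hy, e⟩ := x.2
      exact ⟨⟨y, hy⟩, Subtype.ext e⟩
  have hA'ea : Cfsg.IsElementaryAbelian q A' := by
    refine ⟨⟨⟨?_⟩⟩, ?_⟩
    · rintro ⟨_, a, ha, rfl⟩ ⟨_, b, hb, rfl⟩
      refine Subtype.ext ?_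
      show π a * π b = π b * π a
      rw [← map_mul, ← map_mul, show a * b = b * a from
        Subtype.ext (Grp.elemAb_comm hA _ (mem_subgroupOf.mp ha) _ (mem_subgroupOf.mp hb))]
    · rintro _ ⟨a, ha, rfl⟩
      rw [← map_pow, show a ^ q = 1 from Subtype.ext (hA.2 _ (mem_subgroupOf.mp ha)), map_one]
  have hAG' : A' ≤ normalizer (G' : Set _) := by
    refine le_normalizer_of_conj ?_
    rintro _ ⟨a, ha, rfl⟩ _ ⟨g, hg, rfl⟩
    exact ⟨a * g * a⁻¹, mem_subgroupOf.mpr (by simpa using Grp.mem_conj_normalizer (hAG (mem_subgroupOf.mp ha)) (mem_subgroupOf.mp hg)), by simp⟩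
  have hG'dvd : Nat.card G' ∣ Nat.card G :=
    (Subgroup.card_map_dvd π (H := G.subgroupOf M)).trans hGcard.dvd
  have hG'lt : Nat.card G' < Nat.card G := by
    refine lt_of_le_of_ne (Nat.le_of_dvd Nat.card_pos hG'dvd) fun e => hN0 ?_
    rw [eq_bot_iff]
    intro x hx
    have hsurj : Function.Surjective (π.subgroupMap (G.subgroupOf M)) := π.subgroupMap_surjective _
    have hinj := ((Nat.bijective_iff_surjective_and_card _).mpr ⟨hsurj, hGcard.trans e.symm⟩).1
    have hx' : (⟨x, hGM (hNG hx)⟩ : M) ∈ G.subgroupOf M := mem_subgroupOf.mpr (hNG hx)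
    have h1 : (⟨⟨x, hGM (hNG hx)⟩, hx'⟩ : ↥(G.subgroupOf M)) = 1 :=
      hinj (Subtype.ext (by simpa using (hπ ⟨x, hGM (hNG hx)⟩).mpr hx))
    exact mem_bot.mpr (congrArg Subtype.val (congrArg Subtype.val h1))
  have hlift : ∀ a : M, (a : X) ∈ A → ∀ x : M, (x : X) ∈ G → Commute (π x) (π a) →
      ∃ c : M, (c : X) ∈ G ∧ Commute (c : X) a ∧ π c = π x := by
    intro a ha x hx hxa
    have hle : zpowers (a : X) ≤ A := zpowers_le.mpr ha
    obtain ⟨d, hd, hxd⟩ := Grp.exists_fixed_rep (zpowers (a : X)) G N (hle.trans hAG)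
      (eq_bot_iff.mpr ((inf_le_inf_right _ hle).trans
        (inf_eq_bot_of_coprime (hcop' G le_rfl)).le))
      ((hcop' N hNG).coprime_dvd_left (card_dvd_of_le hle)) (.inr hsN) hNG hGN
      (hle.trans hAN) hx (by
        rintro _ ⟨i, rfl⟩
        have : π (a ^ i * x * (a ^ i)⁻¹ * x⁻¹) = 1 := by
          rw [map_mul, map_mul, map_mul, map_inv, map_inv, map_zpow,
            ← (hxa.zpow_right i).eq]
          group
        simpa using (hπ _).mp this)
    refine ⟨⟨d, hGM hd.1⟩, hd.1, (mem_centralizer_iff.mp hd.2 a (mem_zpowers _)).symm, ?_⟩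
    have : π (x⁻¹ * ⟨d, hGM hd.1⟩) = 1 := (hπ _).mpr (by simpa using hxd)
    rw [map_mul, map_inv, inv_mul_eq_one] at this
    exact this.symm
  have hq' : Group.IsSolvable G' := by
    refine ih _ G' A' hG'lt hAG' hA'ea hAcard (fun hd => hcop (hd.trans hG'dvd)) ?_
    rintro _ ⟨a, ha, rfl⟩ ha1 _ ⟨x, hx, rfl⟩ _ ⟨y, hy, rfl⟩ hxa hya
    obtain ⟨c, hcG, hca, ec⟩ := hlift a ha x hx hxa
    obtain ⟨d, hdG, hda, ed⟩ := hlift a ha y hy hya
    have ha0 : (a : X) ≠ 1 := fun e => ha1 (by rw [show a = 1 from Subtype.ext e, map_one])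
    have hcd : c * d = d * c := Subtype.ext (hab _ ha ha0 _ hcG _ hdG hca hda).eq
    rw [← ec, ← ed]
    show π c * π d = π d * π c
    rw [← map_mul, ← map_mul, hcd]
  haveI := hsN
  let ψ : G →* Y := π.comp (inclusion hGM)
  have hψ : ψ.range = G' := by
    rw [hG', MonoidHom.range_comp, Subgroup.inclusion_range]
  haveI : Group.IsSolvable ψ.range := by rw [hψ]; exact hq'
  refine Group.isSolvable_of_ker_le_range (inclusion hNG) ψ.rangeRestrict ?_
  intro x hx
  rw [MonoidHom.ker_rangeRestrict, MonoidHom.mem_ker] at hx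
  exact ⟨⟨x, (hπ _).mp hx⟩, rfl⟩

/-- The hypothesis passes to the quotient by an invariant solvable normal subgroup. -/
theorem quot_solvable [Finite X] {q : ℕ} (hq : q.Prime) {G A N : Subgroup X}
    (hAG : A ≤ normalizer (G : Set X)) (hA : Cfsg.IsElementaryAbelian q A) (hcard : Nat.card A = q ^ 2)
    (hcop : ¬ q ∣ Nat.card G)
    (hab : ∀ a ∈ A, a ≠ 1 → ∀ x ∈ G, ∀ y ∈ G, Commute x a → Commute y a → Commute x y)
    (hNG : N ≤ G) (hAN : A ≤ normalizer (N : Set X)) (hGN : G ≤ normalizer (N : Set X))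
    (hN0 : N ≠ ⊥) (hsN : Group.IsSolvable N)
    (ih : ∀ (Y : Type u) [Group Y] [Finite Y] (H B : Subgroup Y), Nat.card H < Nat.card G →
      B ≤ normalizer (H : Set Y) → Cfsg.IsElementaryAbelian q B → Nat.card B = q ^ 2 →
      ¬ q ∣ Nat.card H →
      (∀ a ∈ B, a ≠ 1 → ∀ x ∈ H, ∀ y ∈ H, Commute x a → Commute y a → Commute x y) →
      Group.IsSolvable H) : Group.IsSolvable G := by
  haveI hNn : (N.subgroupOf (normalizer (N : Set X))).Normal :=
    (normal_subgroupOf_iff_le_normalizer le_normalizer).mpr le_rfl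
  refine image_solvable hq hAG hA hcard hcop hab hNG hAN hGN hN0 hsN hGN hAN
    (QuotientGroup.mk' (N.subgroupOf (normalizer (N : Set X)))) (fun x => ?_) ih
  rw [QuotientGroup.mk'_apply, QuotientGroup.eq_one_iff, mem_subgroupOf]

/-- The theorem for an operator group inside an ambient group. -/
theorem isSolvable {q : ℕ} (hq : q.Prime) : ∀ (n : ℕ) (X : Type u) [Group X] [Finite X]
    (G A : Subgroup X), Nat.card G = n → A ≤ normalizer (G : Set X) →
    Cfsg.IsElementaryAbelian q A → Nat.card A = q ^ 2 → ¬ q ∣ Nat.card G →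
    (∀ a ∈ A, a ≠ 1 → ∀ x ∈ G, ∀ y ∈ G, Commute x a → Commute y a → Commute x y) →
    Group.IsSolvable G := by
  intro n
  induction n using Nat.strong_induction_on with
  | _ n ih =>
    intro X _ _ G A hn hAG hA hcard hcop hab
    subst hn
    by_contra hns
    haveI := Fact.mk hq
    haveI := hA.1
    have hsA : Group.IsSolvable A := Group.isSolvable_of_comm mul_comm'
    have hcop' : ∀ H : Subgroup X, H ≤ G → (Nat.card A).Coprime (Nat.card H) := fun H h => by
      rw [hcard]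
      exact Nat.Coprime.pow_left _ (hq.coprime_iff_not_dvd.mpr
        fun hd => hcop (hd.trans (card_dvd_of_le h)))
    have hsub : ∀ H : Subgroup X, H ≤ G → A ≤ normalizer (H : Set X) → H ≠ G → Group.IsSolvable H :=
      fun H h hAH hne => ih _ (Set.ncard_lt_ncard (SetLike.coe_ssubset_coe.mpr (lt_of_le_of_ne h hne))) X H A rfl hAH hA hcard
        (fun hd => hcop (hd.trans (card_dvd_of_le h)))
        (fun a ha ha1 x hx y hy => hab a ha ha1 x (h hx) y (h hy))
    have hmin : ∀ N : Subgroup X, N ≤ G → A ≤ normalizer (N : Set X) →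
        G ≤ normalizer (N : Set X) → N = ⊥ ∨ N = G := by
      intro N hNG hAN hGN
      by_contra! hc
      exact hns (quot_solvable hq hAG hA hcard hcop hab hNG hAN hGN hc.1 (hsub N hNG hAN hc.2)
        fun Y _ _ H B hlt => ih _ hlt Y H B rfl)
    have hfix : G ⊓ centralizer (A : Set X) = ⊥ := by
      set F := G ⊓ centralizer (A : Set X) with hF
      have hnc : ¬ IsCyclic A := fun hc => by
        obtain ⟨g, hg⟩ := hc.exists_generator
        have h1 : Nat.card A ∣ q := by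
          rw [← orderOf_eq_card_of_forall_mem_zpowers hg]
          exact orderOf_dvd_of_pow_eq_one (Subtype.ext (hA.2 g g.2))
        have := Nat.le_of_dvd hq.pos h1
        rw [hcard] at this
        nlinarith [hq.two_le]
      have hGF : G ≤ centralizer (F : Set X) := by
        rw [← Grp.generated_by_centralizers A G hnc hAG (hcop' G le_rfl)]
        refine iSup₂_le fun a ha x hx => mem_centralizer_iff.mpr fun f hf => ?_
        exact (hab a ha.1 ha.2 f hf.1 x hx.1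
          (mem_centralizer_iff.mp hf.2 a ha.1).symm (cmem.mp hx.2)).eq
      refine (hmin F inf_le_left (inv_inf hAG (inv_centralizer le_normalizer))
        (hGF.trans (Subgroup.centralizer_le_normalizer _))).elim id fun e => (hns ?_).elim
      rw [e] at hGF
      exact Group.isSolvable_of_comm fun x y =>
        Subtype.ext (mem_centralizer_iff.mp (hGF y.2) x x.2)
    exact Ctx.false ⟨hq, hAG, hA, hcard, hcop, hfix, hab, hsub, hmin, hns⟩

end Cfsg.Agent.Block.WardQSq
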