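import Cfsg.Agent.Lib.Block.WardQSq.Act
import Cfsg.Agent.Lib.Invol.LargeSubgroup

/-!
Invariant subgroups for two primes.
-/

set_option autoImplicit false
set_option linter.unusedSectionVars false
set_option linter.style.haveILetI false

namespace Cfsg.Agent.Block.WardQSq

open Subgroup
open scoped commutatorElement Pointwise

universe u

variable {X : Type u} [Group X]

/-- An invariant subgroup of `G` involving only the primes `r`, `s`. -/
def IsRS (r s : ℕ) (G A H : Subgroup X) : Prop :=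
  H ≤ G ∧ A ≤ normalizer (H : Set X) ∧ ∀ t : ℕ, t.Prime → t ∣ Nat.card H → t = r ∨ t = s

theorem IsRS.swap {r s : ℕ} {G A H : Subgroup X} (h : IsRS r s G A H) : IsRS s r G A H :=
  ⟨h.1, h.2.1, fun t ht hd => (h.2.2 t ht hd).symm⟩

/-- A non-permutable pair of invariant Sylow subgroups. -/
structure Pair [Finite X] (q : ℕ) (G A : Subgroup X) (r s : ℕ) (R Q : Subgroup X) : Prop where
  ctx : Ctx q G A
  hr : r.Prime
  hs : s.Prime
  hrs : r ≠ s
  hR : Grp.IsSylowIn r R G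
  hQ : Grp.IsSylowIn s Q G
  hAR : A ≤ normalizer (R : Set X)
  hAQ : A ≤ normalizer (Q : Set X)
  perm : ∀ H : Subgroup X, IsRS r s G A H → R ≤ H → Q ≤ H → False

variable [Finite X]

theorem Pair.swap {q r s : ℕ} {G A R Q : Subgroup X} (P : Pair q G A r s R Q) : Pair q G A s r Q R :=
  ⟨P.ctx, P.hs, P.hr, P.hrs.symm, P.hQ, P.hR, P.hAQ, P.hAR, fun H h a b => P.perm H h.swap b a⟩

theorem grow {p : ℕ} [Fact p.Prime] {Q U : Subgroup X} (hQ : IsPGroup p Q) (hUQ : U ≤ Q)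
    (hne : U ≠ Q) : ∃ x ∈ Q, x ∈ normalizer (U : Set X) ∧ x ∉ U := by
  haveI := hQ.isNilpotent
  have hlt : U.subgroupOf Q < ⊤ := lt_top_iff_ne_top.mpr fun h =>
    hne (le_antisymm hUQ (subgroupOf_eq_top.mp h))
  have h := normalizerCondition_of_isNilpotent (U.subgroupOf Q) hlt
  obtain ⟨x, hx, hxU⟩ := SetLike.exists_of_lt h
  refine ⟨x, x.2, mem_normalizer_fintype fun u hu => ?_, fun h' => hxU (mem_subgroupOf.mpr h')⟩
  have := (mem_normalizer_iff.mp hx ⟨u, hUQ hu⟩).mp (mem_subgroupOf.mpr hu)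
  simpa [mem_subgroupOf] using this

theorem comm_bot {U V : Subgroup X} {u v : X} (hu : u ∈ U) (hv : v ∈ V)
    (huV : u ∈ normalizer (V : Set X)) (hvU : v ∈ normalizer (U : Set X)) (h : U ⊓ V = ⊥) :
    Commute u v := by
  have h1 : ⁅u, v⁆ ∈ V := V.mul_mem (Grp.mem_conj_normalizer huV hv) (V.inv_mem hv)
  have h2 : ⁅u, v⁆ ∈ U := by
    rw [commutatorElement_def, mul_assoc, mul_assoc, ← mul_assoc v]
    exact U.mul_mem hu (Grp.mem_conj_normalizer hvU (U.inv_mem hu))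
  exact commutatorElement_eq_one_iff_mul_comm.mp (mem_bot.mp (h.le ⟨h2, h1⟩))

theorem exists_nilpotent_core {q : ℕ} {G A H : Subgroup X} (C : Ctx q G A) (hH : H ≤ G)
    (hAH : A ≤ normalizer (H : Set X)) (hs : Group.IsSolvable H) :
    ∃ N : Subgroup X, N ≤ H ∧ H ≤ normalizer (N : Set X) ∧ Group.IsNilpotent N ∧
      ∀ {r s : ℕ}, r.Prime → s.Prime → r ≠ s → ∀ {t u : X} {i j : ℕ}, t ∈ H → u ∈ H →
        t ^ r ^ i = 1 → u ^ s ^ j = 1 → ⁅t, u⁆ ∈ N := by
  haveI := Fact.mk C.hq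
  set M := normalizer (H : Set X) with hM
  haveI : (H.subgroupOf M).Normal :=
    (normal_subgroupOf_iff_le_normalizer le_normalizer).mpr le_rfl
  set e := subgroupOfEquivOfLe (le_normalizer (H := H))
  have hs' : Group.IsSolvable (H.subgroupOf M) :=
    Group.isSolvable_of_isSolvable_injective (f := e.toMonoidHom) e.injective
  have hA' : Cfsg.IsElementaryAbelian q (A.subgroupOf M) :=
    ⟨⟨⟨fun a b => Subtype.ext (Subtype.ext
      (Grp.elemAb_comm C.hA _ (mem_subgroupOf.mp a.2) _ (mem_subgroupOf.mp b.2)))⟩⟩,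
      fun a ha => Subtype.ext (by simpa using C.hA.2 _ (mem_subgroupOf.mp ha))⟩
  have hcard : Nat.card (A.subgroupOf M) = q ^ 2 := by
    rw [Nat.card_congr (subgroupOfEquivOfLe hAH).toEquiv, C.hcard]
  have hfpf : H.subgroupOf M ⊓ centralizer ((A.subgroupOf M : Subgroup M) : Set M) = ⊥ := by
    rw [eq_bot_iff]
    rintro x ⟨hx, hxc⟩
    refine mem_bot.mpr (Subtype.ext (mem_bot.mp ((C.fixed_eq_bot hH).le ⟨mem_subgroupOf.mp hx, ?_⟩)))
    exact mem_centralizer_iff.mpr fun a ha => congrArg Subtype.val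
      (mem_centralizer_iff.mp hxc ⟨a, hAH ha⟩ (mem_subgroupOf.mpr ha))
  obtain ⟨N, hN, hNn, n, hn⟩ := Grp.ward_quotient_fitting_isNilpotent hs' hA' hcard hfpf
  haveI := hN
  have hq : Group.IsNilpotent (↥(H.subgroupOf M) ⧸ N) := by
    refine Subgroup.nilpotent_iff_lowerCentralSeries.mpr ⟨n, ?_⟩
    rw [← Subgroup.map_top_of_surjective _ (QuotientGroup.mk'_surjective N),
      ← Subgroup.map_lowerCentralSeries, Subgroup.map_eq_bot_iff, QuotientGroup.ker_mk']
    exact hn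
  let ι : ↥(H.subgroupOf M) →* X := M.subtype.comp (H.subgroupOf M).subtype
  have hι : Function.Injective ι := fun a b h => Subtype.ext (Subtype.ext h)
  refine ⟨N.map ι, ?_, ?_, ?_, ?_⟩
  · rintro _ ⟨x, -, rfl⟩
    exact mem_subgroupOf.mp x.2
  · refine le_normalizer_of_conj fun h hh x hx => ?_
    obtain ⟨y, hy, rfl⟩ := hx
    exact ⟨_, hN.conj_mem y hy ⟨⟨h, le_normalizer hh⟩, mem_subgroupOf.mpr hh⟩, by simp [ι]⟩
  · haveI := hNn
    exact Group.nilpotent_of_mulEquiv (N.equivMapOfInjective ι hι)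
  · intro r s hr hs hrs t u i j ht hu hti huj
    haveI := Fact.mk hr
    haveI := Fact.mk hs
    let t' : ↥(H.subgroupOf M) := ⟨⟨t, le_normalizer ht⟩, mem_subgroupOf.mpr ht⟩
    let u' : ↥(H.subgroupOf M) := ⟨⟨u, le_normalizer hu⟩, mem_subgroupOf.mpr hu⟩
    have h1 : (QuotientGroup.mk' N t') ^ r ^ i = 1 := by
      rw [← map_pow, show t' ^ r ^ i = 1 from hι (by simpa [ι, t'] using hti), map_one]
    have h2 : (QuotientGroup.mk' N u') ^ s ^ j = 1 := by
      rw [← map_pow, show u' ^ s ^ j = 1 from hι (by simpa [ι, u'] using huj), map_one]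
    have h3 := Grp.commute_of_nilpotent_coprime hq hrs h1 h2
    refine ⟨⁅t', u'⁆, ?_, by simp [ι, t', u', commutatorElement_def]⟩
    rw [SetLike.mem_coe, ← QuotientGroup.eq_one_iff, ← QuotientGroup.mk'_apply, map_commutatorElement]
    exact commutatorElement_eq_one_iff_mul_comm.mpr h3

namespace Pair

variable {q r s : ℕ} {G A R Q : Subgroup X} (P : Pair q G A r s R Q)
include P

theorem fr : Fact r.Prime := ⟨P.hr⟩
theorem fs : Fact s.Prime := ⟨P.hs⟩

theorem inv_R {H : Subgroup X} (h : A ≤ normalizer (H : Set X)) :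
    A ≤ normalizer ((H ⊓ R : Subgroup X) : Set X) := inv_inf h P.hAR

theorem inv_Q {H : Subgroup X} (h : A ≤ normalizer (H : Set X)) :
    A ≤ normalizer ((H ⊓ Q : Subgroup X) : Set X) := inv_inf h P.hAQ

theorem inf_bot : R ⊓ Q = ⊥ := by
  haveI := P.fr; haveI := P.fs
  exact inf_eq_bot_of_coprime (pgroup_coprime P.hrs P.hR.2.1 P.hQ.2.1)

theorem decomp {H T : Subgroup X} (h : IsRS r s G A H) (h1 : H ⊓ R ≤ T) (h2 : H ⊓ Q ≤ T) :
    H ≤ T := by
  haveI := P.fr; haveI := P.fs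
  refine le_trans (Grp.le_of_forall_sylow (H := H ⊓ T) inf_le_left fun t ht => ?_) inf_le_right
  by_cases htr : t = r
  · subst htr
    exact ⟨H ⊓ R, P.ctx.sylowIn_inf P.hR P.hAR h.1 h.2.1, le_inf inf_le_left h1⟩
  by_cases hts : t = s
  · subst hts
    exact ⟨H ⊓ Q, P.ctx.sylowIn_inf P.hQ P.hAQ h.1 h.2.1, le_inf inf_le_left h2⟩
  refine ⟨⊥, ⟨bot_le, IsPGroup.of_bot, fun hd => ?_⟩, bot_le⟩
  rw [relIndex_bot_left] at hd
  exact (h.2.2 t ht.out hd).elim htr hts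

theorem ne_G {H : Subgroup X} (h : IsRS r s G A H) : H ≠ G := fun e =>
  P.perm H h (e ▸ P.hR.1) (e ▸ P.hQ.1)

theorem sol {H : Subgroup X} (h : IsRS r s G A H) : Group.IsSolvable H :=
  P.ctx.sol H h.1 h.2.1 (P.ne_G h)

theorem hall {C : Subgroup X} (hC : C ≤ G) (hAC : A ≤ normalizer (C : Set X)) (hne : C ≠ G) :
    ∃ H, IsRS r s G A H ∧ H ≤ C ∧ C ⊓ R ≤ H ∧ C ⊓ Q ≤ H := by
  haveI := P.fr; haveI := P.fs
  obtain ⟨H, hH, hAH, -⟩ := Grp.PiHall.exists_ge (π := ({r, s} : Set ℕ)) _ X A C ⊥ rfl hAC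
    (P.ctx.cop hC) (P.ctx.sol C hC hAC hne) bot_le
    (le_normalizer_of_conj fun a _ x hx => by rw [mem_bot.mp hx]; simp)
    (fun p hp hd => by
      rw [Subgroup.card_bot] at hd
      exact absurd (Nat.dvd_one.mp hd) hp.ne_one)
  have hrs : IsRS r s G A H := ⟨hH.1.trans hC, hAH, fun t ht hd => by
    simpa using hH.2.1 t ht hd⟩
  have key : ∀ (t : ℕ) [Fact t.Prime] (T : Subgroup X), t ∈ ({r, s} : Set ℕ) →
      Grp.IsSylowIn t T G → A ≤ normalizer (T : Set X) → C ⊓ T ≤ H := by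
    intro t htf T ht hT hAT
    have h1 := P.ctx.sylowIn_inf hT hAT hrs.1 hAH
    have h2 : Grp.IsSylowIn t (H ⊓ T) C := ⟨inf_le_left.trans hH.1, h1.2.1, fun hd => by
      rw [← relIndex_mul_relIndex (H ⊓ T) H C inf_le_left hH.1] at hd
      exact (htf.out.dvd_mul.mp hd).elim h1.2.2 (hH.2.2 t htf.out ht)⟩
    rw [← h2.eq_of_le (inf_le_inf_right _ hH.1) inf_le_left (hT.2.1.to_le inf_le_right)]
    exact inf_le_left
  exact ⟨H, hrs, hH.1, key r R (by simp) P.hR P.hAR, key s Q (by simp) P.hQ P.hAQ⟩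

theorem le_R {U : Subgroup X} (hU : U ≤ G) (hp : IsPGroup r U) (hA : A ≤ normalizer (U : Set X)) :
    U ≤ R := by
  haveI := P.fr
  exact P.ctx.le_syl P.hR P.hAR hU hp hA

theorem core_pgroup (H : Subgroup X) : IsPGroup r (Cfsg.pCoreOf r H) := by
  haveI := P.fr
  exact Invol.lg_isPGroup_pCoreOf H

theorem core_inv {H : Subgroup X} (h : A ≤ normalizer (H : Set X)) :
    A ≤ normalizer ((Cfsg.pCoreOf r H : Subgroup X) : Set X) := by
  haveI := P.fr
  exact h.trans (Invol.lg_normalizer_le_normalizer_pCoreOf H)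

theorem core_le {H : Subgroup X} (h : IsRS r s G A H) : Cfsg.pCoreOf r H ≤ H ⊓ R :=
  le_inf (Invol.lg_pCoreOf_le H) (P.le_R ((Invol.lg_pCoreOf_le H).trans h.1) (P.core_pgroup H)
    (P.core_inv h.2.1))

theorem cores_commute {H : Subgroup X} (h : IsRS r s G A H) {w y : X}
    (hw : w ∈ Cfsg.pCoreOf r H) (hy : y ∈ Cfsg.pCoreOf s H) : Commute w y :=
  comm_bot hw hy (Invol.lg_le_normalizer_pCoreOf H (Invol.lg_pCoreOf_le H hw))
    (Invol.lg_le_normalizer_pCoreOf H (Invol.lg_pCoreOf_le H hy))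
    (eq_bot_iff.mpr ((inf_le_inf ((P.core_le h).trans inf_le_right)
      ((P.swap.core_le h.swap).trans inf_le_right)).trans P.inf_bot.le))

/-- Commutators of `r`- and `s`-elements lie in the product of the cores. -/
theorem comm_mem {H : Subgroup X} (h : IsRS r s G A H) {t u : X} {i j : ℕ} (ht : t ∈ H)
    (hu : u ∈ H) (hti : t ^ r ^ i = 1) (huj : u ^ s ^ j = 1) :
    ⁅t, u⁆ ∈ Cfsg.pCoreOf r H ⊔ Cfsg.pCoreOf s H := by
  obtain ⟨N, hNH, hHN, hNn, hc⟩ := exists_nilpotent_core P.ctx h.1 h.2.1 (P.sol h)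
  refine (?_ : N ≤ _) (hc P.hr P.hs P.hrs ht hu hti huj)
  refine le_trans (Grp.le_of_forall_sylow (H := N ⊓ (Cfsg.pCoreOf r H ⊔ Cfsg.pCoreOf s H))
    inf_le_left fun v hv => ?_) inf_le_right
  obtain ⟨V, hV⟩ := Grp.exists_isSylowIn v N
  refine ⟨V, hV, le_inf hV.1 ?_⟩
  by_cases hV0 : V = ⊥
  · rw [hV0]; exact bot_le
  obtain ⟨P', hP'⟩ := Grp.isSylowIn_iff.mp hV
  haveI hPn : (P' : Subgroup N).Normal :=
    (Grp.isNilpotent_iff_sylow_normal.mp hNn) v inferInstance P'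
  have hNV : N ≤ normalizer (V : Set X) := by
    rw [← normal_subgroupOf_iff_le_normalizer hV.1, ← hP', subgroupOf,
      comap_map_eq_self_of_injective N.subtype_injective]
    exact hPn
  have hHV : H ≤ normalizer (V : Set X) := fun g hg => by
    have hgN := Grp.normalizer_le_smul hHN hg
    obtain ⟨k, hk, e⟩ := hV.conj (hV.smul hgN)
    rw [Grp.mem_normalizer_iff_smul, ← e]
    exact Grp.normalizer_le_smul hNV hk
  have hvd : v = r ∨ v = s := by
    refine h.2.2 v hv.out (dvd_trans ?_ (card_dvd_of_le (hV.1.trans hNH)))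
    haveI := (nontrivial_iff_ne_bot V).mpr hV0
    obtain ⟨m, hm0, hm⟩ := hV.2.1.nontrivial_iff_card.mp inferInstance
    rw [hm]
    exact dvd_pow_self v hm0.ne'
  rcases hvd with rfl | rfl
  · exact (Invol.lg_le_pCoreOf (hV.1.trans hNH) hHV hV.2.1).trans le_sup_left
  · exact (Invol.lg_le_pCoreOf (hV.1.trans hNH) hHV hV.2.1).trans le_sup_right

/-- An `s`-element subgroup centralising the `r`-core lies in the `s`-core. -/
theorem le_core {H U : Subgroup X} (h : IsRS r s G A H) (hU : U ≤ H ⊓ Q)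
    (hc : U ≤ centralizer (Cfsg.pCoreOf r H : Set X)) : U ≤ Cfsg.pCoreOf s H := by
  haveI := P.fr; haveI := P.fs
  set W := Cfsg.pCoreOf r H with hW
  set Q1 := H ⊓ Q ⊓ centralizer (W : Set X) with hQ1
  have hHW : H ≤ normalizer (W : Set X) := Invol.lg_le_normalizer_pCoreOf H
  suffices hn : H ≤ normalizer (Q1 : Set X) from
    (le_inf hU hc).trans (Invol.lg_le_pCoreOf (inf_le_left.trans inf_le_left) hn
      (P.hQ.2.1.to_le (inf_le_left.trans inf_le_right)))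
  have hcW : ∀ g ∈ H, g ∈ normalizer ((centralizer (W : Set X) : Subgroup X) : Set X) :=
    fun g hg => inv_centralizer hHW hg
  refine P.decomp h ?_ (inv_inf le_normalizer (fun g hg => hcW g hg.1))
  intro t ht
  refine mem_normalizer_fintype fun u hu => ?_
  obtain ⟨⟨huH, huQ⟩, huW⟩ := hu
  obtain ⟨i, hi⟩ := P.hR.2.1 ⟨t, ht.2⟩
  obtain ⟨j, hj⟩ := P.hQ.2.1 ⟨u, huQ⟩
  have hti : t ^ r ^ i = 1 := congrArg Subtype.val hi
  have huj : u ^ s ^ j = 1 := congrArg Subtype.val hj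
  have hm := P.comm_mem h ht.1 huH hti huj
  have hWY : W ≤ normalizer ((Cfsg.pCoreOf s H : Subgroup X) : Set X) :=
    (Invol.lg_pCoreOf_le H).trans (Invol.lg_le_normalizer_pCoreOf H)
  rw [← hW] at hm
  obtain ⟨w, hw, y, hy, e⟩ : ⁅t, u⁆ ∈ (W : Set X) * (Cfsg.pCoreOf s H : Set X) := by
    rw [← coe_mul_of_left_le_normalizer_right _ _ hWY]; exact hm
  simp only at e
  have hyW : y ∈ centralizer (W : Set X) := mem_centralizer_iff.mpr fun z hz =>
    (P.cores_commute h hz hy).eq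
  have htu : t * u * t⁻¹ = w * (y * u) := by
    rw [← mul_assoc, e]; simp [commutatorElement_def]
  have hcm : t * u * t⁻¹ ∈ centralizer (W : Set X) :=
    Grp.mem_conj_normalizer (hcW t ht.1) huW
  have hwW : w ∈ centralizer (W : Set X) := by
    rw [htu] at hcm
    exact (centralizer (W : Set X)).mul_mem_cancel_right ((centralizer _).mul_mem hyW huW) |>.mp hcm
  have hyuQ : y * u ∈ Q :=
    Q.mul_mem ((P.swap.core_le h.swap) hy).2 huQ
  have hw1 : w = 1 := by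
    obtain ⟨j', hj'⟩ := P.hQ.2.1 ⟨y * u, hyuQ⟩
    have hj'' : (y * u) ^ s ^ j' = 1 := congrArg Subtype.val hj'
    have hcomm : Commute w (y * u) :=
      mem_centralizer_iff.mp ((centralizer (W : Set X)).mul_mem hyW huW) w hw
    have h1 : (t * u * t⁻¹) ^ s ^ (j + j') = 1 := by
      rw [conj_pow, pow_add, pow_mul, huj, one_pow, mul_one, mul_inv_cancel]
    rw [htu, hcomm.mul_pow, pow_add, mul_comm (s ^ j), pow_mul (y * u), hj'', one_pow, mul_one] at h1
    obtain ⟨i', hi'⟩ := P.core_pgroup H ⟨w, hw⟩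
    have hi'' : w ^ r ^ i' = 1 := congrArg Subtype.val hi'
    have hd := Nat.dvd_gcd (orderOf_dvd_of_pow_eq_one hi'') (orderOf_dvd_of_pow_eq_one h1)
    have hcop : (r ^ i').Coprime (s ^ j' * s ^ j) := by
      rw [← pow_add]
      exact Nat.Coprime.pow _ _ ((Nat.coprime_primes P.hr P.hs).mpr P.hrs)
    rw [hcop.gcd_eq_one] at hd
    exact orderOf_eq_one_iff.mp (Nat.dvd_one.mp hd)
  refine ⟨⟨H.mul_mem (H.mul_mem ht.1 huH) (H.inv_mem ht.1), ?_⟩, hcm⟩
  rw [htu, hw1, one_mul]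
  exact hyuQ

end Pair

end Cfsg.Agent.Block.WardQSq
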