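import Cfsg.Agent.Lib.Block.WardQSq.Main
import Cfsg.Agent.Lib.Grp.ThompsonComplement
import Mathlib.GroupTheory.Transfer

/-!
Burnside and Thompson transfer in the minimal configuration.
-/

set_option autoImplicit false
set_option linter.unusedSectionVars false
set_option linter.style.haveILetI false

namespace Cfsg.Agent.Block.WardQSq

open Subgroup
open scoped commutatorElement Pointwise

universe u

variable {X : Type u} [Group X] [Finite X] {q : ℕ} {G A : Subgroup X}

namespace Ctx

theorem complement_false (C : Ctx q G A) {r : ℕ} [hr : Fact r.Prime] (hdvd : r ∣ Nat.card G)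
    (h : Cfsg.HasNormalPComplement r G) : False := by
  obtain ⟨P, N, hN, hc⟩ := h
  haveI := hN
  have hidx : N.index = Nat.card (P : Subgroup G) := hc.symm.index_eq_card
  obtain ⟨k, hk⟩ := IsPGroup.iff_card.mp P.isPGroup'
  have hNc : Nat.Coprime (Nat.card N) r := by
    rw [Nat.coprime_comm, hr.out.coprime_iff_not_dvd]
    intro hd
    refine P.not_dvd_index ?_
    rw [hc.index_eq_card]
    exact hd
  set N0 := N.map G.subtype with hN0
  have hN0G : N0 ≤ G := map_subtype_le N
  have hmem : ∀ x : X, x ∈ N0 ↔ x ∈ G ∧ (orderOf x).Coprime r := by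
    intro x
    constructor
    · rintro ⟨y, hy, rfl⟩
      refine ⟨y.2, ?_⟩
      show (orderOf (y : X)).Coprime r
      rw [orderOf_coe]
      exact hNc.coprime_dvd_left (N.orderOf_dvd_natCard hy)
    · rintro ⟨hxG, hx⟩
      refine ⟨⟨x, hxG⟩, ?_, rfl⟩
      rw [SetLike.mem_coe, ← QuotientGroup.eq_one_iff, ← orderOf_eq_one_iff, ← Nat.dvd_one]
      have h1 : orderOf ((⟨x, hxG⟩ : G) : G ⧸ N) ∣ orderOf x := by
        rw [← Subgroup.orderOf_mk x hxG]
        exact orderOf_map_dvd (QuotientGroup.mk' N) _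
      have h2 : orderOf ((⟨x, hxG⟩ : G) : G ⧸ N) ∣ r ^ k := by
        rw [← hk, ← hidx, index_eq_card]
        exact orderOf_dvd_natCard _
      exact (hx.pow_right k) ▸ Nat.dvd_gcd h1 h2
  have hinv : ∀ g : X, g ∈ normalizer (G : Set X) → g ∈ normalizer (N0 : Set X) := fun g hg =>
    mem_normalizer_fintype fun x hx => (hmem _).mpr ⟨Grp.mem_conj_normalizer hg ((hmem x).mp hx).1, by
      rw [show g * x * g⁻¹ = MulAut.conj g x from rfl, MulEquiv.orderOf_eq]
      exact ((hmem x).mp hx).2⟩
  rcases C.minN N0 hN0G (fun a ha => hinv a (C.hAG ha)) (fun g hg => hinv g (le_normalizer hg))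
    with e | e
  · rw [hN0, map_eq_bot_iff_of_injective _ G.subtype_injective] at e
    refine C.not_isPGroup (IsPGroup.of_card (p := r) (n := k) ?_)
    rw [← hk, ← hidx, e, index_bot]
  · have hcard : Nat.card N = Nat.card G := by
      rw [Nat.card_congr (N.equivMapOfInjective _ G.subtype_injective).toEquiv]
      exact congrArg (fun H : Subgroup X => Nat.card H) e
    rw [hcard] at hNc
    exact hr.out.coprime_iff_not_dvd.mp hNc.symm hdvd

/-- No Sylow subgroup is fixed by an element of `A`. -/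
theorem single_line_false (C : Ctx q G A) {r : ℕ} [hr : Fact r.Prime] {R : Subgroup X}
    (hR : Grp.IsSylowIn r R G) (hAR : A ≤ normalizer (R : Set X)) (hdvd : r ∣ Nat.card G)
    {b : X} (hb : b ∈ A) (hb1 : b ≠ 1) (h : R ≤ centralizer ({b} : Set X)) : False := by
  haveI := C.solA
  set N := G ⊓ normalizer (R : Set X) with hN
  have hAN : A ≤ normalizer (N : Set X) := C.inv_normalizer_inf hAR
  have hbR : ∀ i : ℤ, b ^ i ∈ centralizer (R : Set X) := fun i => mem_centralizer_iff.mpr fun x hx =>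
    ((cmem.mp (h hx)).zpow_right i).eq
  have hNC : N ≤ centralizer (R : Set X) := by
    intro n hn
    obtain ⟨m, hm, c, hc, rfl⟩ := Grp.exists_commutator_mul_fixed (zpowers b) N
      ((zpowers_le.mpr hb).trans hAN)
      ((C.cop inf_le_left).coprime_dvd_left (card_dvd_of_le (zpowers_le.mpr hb)))
      (.inl (Group.isSolvable_of_isSolvable_injective
        (f := inclusion (zpowers_le.mpr hb : zpowers b ≤ A)) (inclusion_injective _))) hn
    refine mul_mem ((commutator_le.mpr ?_ : ⁅N, zpowers b⁆ ≤ centralizer (R : Set X)) hm) ?_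
    · rintro g hg _ ⟨i, rfl⟩
      rw [commutatorElement_def]
      exact mul_mem (Grp.mem_conj_normalizer (inv_centralizer (A := normalizer (R : Set X)) le_rfl hg.2)
        (hbR i)) (inv_mem (hbR i))
    · refine mem_centralizer_iff.mpr fun x hx => (C.ab b hb hb1 x (hR.1 hx) c hc.1.1 (cmem.mp (h hx))
        (mem_centralizer_iff.mp hc.2 b (mem_zpowers b)).symm).eq
  obtain ⟨P, hP⟩ := Grp.isSylowIn_iff.mp hR
  have hPC : normalizer ((P : Subgroup G) : Set G) ≤ centralizer ((P : Subgroup G) : Set G) := by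
    intro g hg
    have hgn : (g : X) ∈ normalizer (R : Set X) := mem_normalizer_fintype fun x hx => by
      rw [SetLike.mem_coe, ← hP] at hx ⊢
      obtain ⟨y, hy, rfl⟩ := hx
      exact ⟨g * y * g⁻¹, (mem_normalizer_iff.mp hg y).mp hy, by simp⟩
    refine mem_centralizer_iff.mpr fun x hx => Subtype.ext ?_
    exact mem_centralizer_iff.mp (hNC ⟨g.2, hgn⟩) x (hP ▸ ⟨x, hx, rfl⟩)
  exact C.complement_false hdvd
    ⟨P, (MonoidHom.transferSylow P hPC).ker, inferInstance, MonoidHom.ker_transferSylow_isComplement' P hPC⟩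

theorem local_dich (C : Ctx q G A) {r : ℕ} [hr : Fact r.Prime] {R : Subgroup X}
    (hR : Grp.IsSylowIn r R G) (hAR : A ≤ normalizer (R : Set X)) {H : Subgroup X} (hHG : H ≤ G)
    (hAH : A ≤ normalizer (H : Set X)) (hne : H ≠ G) (hRH : R ≤ H) :
    (∃ b ∈ A, b ≠ 1 ∧ ∀ c ∈ A, c ∉ zpowers b → R ⊓ centralizer ({c} : Set X) ≠ ⊥) ∨
    ∃ K : Subgroup X, K ≤ H ∧ H ≤ normalizer (K : Set X) ∧ (Nat.card K).Coprime r ∧
      ∃ k : ℕ, K.relIndex H = r ^ k := by
  haveI := Fact.mk C.hq
  set Y := Cfsg.pCoreOf r H with hY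
  have hYp : IsPGroup r Y := Invol.lg_isPGroup_pCoreOf H
  have hAY : A ≤ normalizer (Y : Set X) := hAH.trans (Invol.lg_normalizer_le_normalizer_pCoreOf H)
  have hYR : Y ≤ R := C.le_syl hR hAR ((Invol.lg_pCoreOf_le H).trans hHG) hYp hAY
  by_cases hact : ∃ (u : ℕ) (_ : Fact u.Prime) (U : Subgroup X), u ≠ r ∧ Grp.IsSylowIn u U G ∧
      A ≤ normalizer (U : Set X) ∧ ¬ H ⊓ U ≤ centralizer (Y : Set X)
  · obtain ⟨u, _, U, hur, hU, hAU, hnc⟩ := hact
    left
    have hAHU : A ≤ normalizer ((H ⊓ U : Subgroup X) : Set X) := inv_inf hAH hAU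
    obtain ⟨b, hb, hb1, hbY⟩ : ∃ b ∈ A, b ≠ 1 ∧
        ¬ H ⊓ U ⊓ centralizer ({b} : Set X) ≤ centralizer (Y : Set X) := by
      by_contra! hc
      exact hnc (C.le_of_lines (inf_le_left.trans hHG) hAHU hc)
    refine ⟨b, hb, hb1, fun c hc hcb h0 => hbY ?_⟩
    refine commute_of_fpf (q := q) hur.symm hYp (hU.2.1.to_le (inf_le_left.trans inf_le_right))
      ((inf_le_left.trans inf_le_left).trans (Invol.lg_le_normalizer_pCoreOf H)) (C.hA.2 c hc)
      (C.inv_line hAHU hb hc) (hAY hc) ?_ (eq_bot_iff.mpr ((inf_le_inf_right _ hYR).trans h0.le))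
    rw [eq_bot_iff]
    rintro x ⟨⟨hxU, hxb⟩, hxc⟩
    exact mem_bot.mpr (C.fix_two (hHG hxU.1) hb hb1 hc hcb (cmem.mp hxb) (cmem.mp hxc))
  · right
    have hs := C.sol H hHG hAH hne
    obtain ⟨K, hK, hAK, -⟩ := Grp.PiHall.exists_ge (π := {t : ℕ | t ≠ r}) _ X A H ⊥ rfl hAH
      (C.cop hHG) hs bot_le
      (le_normalizer_of_conj fun a _ x hx => by rw [mem_bot.mp hx]; simp)
      (fun p hp hd => by
        rw [Subgroup.card_bot] at hd
        exact absurd (Nat.dvd_one.mp hd) hp.ne_one)
    have hKcop : (Nat.card K).Coprime r := by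
      rw [Nat.coprime_comm, hr.out.coprime_iff_not_dvd]
      exact fun hd => hK.2.1 r hr.out hd rfl
    have hKU : ∀ (u : ℕ) [Fact u.Prime] (U : Subgroup X), u ≠ r → Grp.IsSylowIn u U G →
        A ≤ normalizer (U : Set X) → H ⊓ U ≤ K := by
      intro u huf U hu hU hAU
      have h1 := C.sylowIn_inf hU hAU (hK.1.trans hHG) hAK
      have h2 : Grp.IsSylowIn u (K ⊓ U) H := ⟨inf_le_left.trans hK.1, h1.2.1, fun hd => by
        rw [← relIndex_mul_relIndex (K ⊓ U) K H inf_le_left hK.1] at hd
        exact (huf.out.dvd_mul.mp hd).elim h1.2.2 (hK.2.2 u huf.out hu)⟩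
      rw [← h2.eq_of_le (inf_le_inf_right _ hK.1) inf_le_left (hU.2.1.to_le inf_le_right)]
      exact inf_le_left
    have hKY : K ≤ centralizer (Y : Set X) := by
      refine le_trans (Grp.le_of_forall_sylow (H := K ⊓ centralizer (Y : Set X)) inf_le_left
        fun u hu => ?_) inf_le_right
      obtain ⟨U, hU, hAU⟩ := C.exists_syl u
      have h1 := C.sylowIn_inf hU hAU (hK.1.trans hHG) hAK
      refine ⟨K ⊓ U, h1, le_inf inf_le_left ?_⟩
      by_cases hur : u = r
      · subst hur
        rw [card_pos_bot h1 hKcop]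
        exact bot_le
      · by_contra hnot
        exact hact ⟨u, hu, U, hur, hU, hAU, fun hle =>
          hnot (le_trans (inf_le_inf_right _ hK.1) hle)⟩
    obtain ⟨N, hNH, hHN, hNn, hcomm⟩ := exists_nilpotent_core C hHG hAH hs
    have hNYK : N ≤ Y ⊔ K := by
      refine le_trans (Grp.le_of_forall_sylow (H := N ⊓ (Y ⊔ K)) inf_le_left fun v hv => ?_) inf_le_right
      obtain ⟨V, hV⟩ := Grp.exists_isSylowIn v N
      refine ⟨V, hV, le_inf hV.1 ?_⟩
      obtain ⟨P', hP'⟩ := Grp.isSylowIn_iff.mp hV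
      haveI hPn : (P' : Subgroup N).Normal :=
        (Grp.isNilpotent_iff_sylow_normal.mp hNn) v inferInstance P'
      have hNV : N ≤ normalizer (V : Set X) := by
        rw [← normal_subgroupOf_iff_le_normalizer hV.1, ← hP', subgroupOf,
          comap_map_eq_self_of_injective N.subtype_injective]
        exact hPn
      have hHV : H ≤ normalizer (V : Set X) := fun g hg => by
        obtain ⟨k, hk, e⟩ := hV.conj (hV.smul (Grp.normalizer_le_smul hHN hg))
        rw [Grp.mem_normalizer_iff_smul, ← e]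
        exact Grp.normalizer_le_smul hNV hk
      have hVc : V ≤ Cfsg.pCoreOf v H := Invol.lg_le_pCoreOf (hV.1.trans hNH) hHV hV.2.1
      by_cases hvr : v = r
      · subst hvr; exact hVc.trans le_sup_left
      · obtain ⟨U, hU, hAU⟩ := C.exists_syl v
        refine le_trans ?_ le_sup_right
        exact hVc.trans ((le_inf (Invol.lg_pCoreOf_le H) (C.le_syl hU hAU
          ((Invol.lg_pCoreOf_le H).trans hHG) (Invol.lg_isPGroup_pCoreOf H)
          (hAH.trans (Invol.lg_normalizer_le_normalizer_pCoreOf H)))).trans (hKU v U hvr hU hAU))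
    have hRK : R ≤ normalizer (K : Set X) := by
      intro t ht
      have hle : K ≤ K.comap (MulAut.conj t).toMonoidHom := by
        refine le_trans (Grp.le_of_forall_sylow (H := K ⊓ K.comap (MulAut.conj t).toMonoidHom)
          inf_le_left fun u hu => ?_) inf_le_right
        obtain ⟨U, hU, hAU⟩ := C.exists_syl u
        have h1 := C.sylowIn_inf hU hAU (hK.1.trans hHG) hAK
        refine ⟨K ⊓ U, h1, le_inf inf_le_left fun k hk => ?_⟩
        show t * k * t⁻¹ ∈ K
        by_cases hur : u = r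
        · subst hur
          rw [card_pos_bot h1 hKcop, mem_bot] at hk
          subst hk
          simp
        obtain ⟨i, hi⟩ := hR.2.1 ⟨t, ht⟩
        obtain ⟨j, hj⟩ := hU.2.1 ⟨k, hk.2⟩
        have hkj : k ^ u ^ j = 1 := congrArg Subtype.val hj
        have hm := hcomm hr.out hu.out (Ne.symm hur) (hRH ht) (hK.1 hk.1)
          (congrArg Subtype.val hi : t ^ r ^ i = 1) hkj
        have hKn : K ≤ normalizer (Y : Set X) := hKY.trans (Subgroup.centralizer_le_normalizer _)
        obtain ⟨y, hy, k', hk', e⟩ : ⁅t, k⁆ ∈ (Y : Set X) * (K : Set X) := by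
          rw [← coe_mul_of_right_le_normalizer_left Y K hKn]; exact hNYK hm
        simp only at e
        have htk : t * k * t⁻¹ = y * (k' * k) := by
          rw [← mul_assoc, e]; simp [commutatorElement_def]
        have hcm : Commute y (k' * k) :=
          mem_centralizer_iff.mp (hKY (K.mul_mem hk' hk.1)) y hy
        obtain ⟨i', hi'⟩ := hYp ⟨y, hy⟩
        have hyi : y ^ r ^ i' = 1 := congrArg Subtype.val hi'
        have h2 : y ^ (u ^ j * Nat.card K) = 1 := by
          have h3 : (t * k * t⁻¹) ^ (u ^ j * Nat.card K) = 1 := by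
            rw [conj_pow, pow_mul, hkj, one_pow, mul_one, mul_inv_cancel]
          have h4 : (k' * k) ^ Nat.card K = 1 := by
            exact congrArg Subtype.val
              (pow_card_eq_one' (x := (⟨k' * k, K.mul_mem hk' hk.1⟩ : K)))
          rwa [htk, hcm.mul_pow, mul_comm (u ^ j), pow_mul (k' * k), h4, one_pow, mul_one,
            mul_comm (Nat.card K)] at h3
        have hcop : (r ^ i').Coprime (u ^ j * Nat.card K) :=
          Nat.Coprime.pow_left _ (Nat.Coprime.mul_right
            (Nat.Coprime.pow_right _ ((Nat.coprime_primes hr.out hu.out).mpr (Ne.symm hur))) hKcop.symm)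
        have hd := Nat.dvd_gcd (orderOf_dvd_of_pow_eq_one hyi) (orderOf_dvd_of_pow_eq_one h2)
        rw [hcop.gcd_eq_one, Nat.dvd_one, orderOf_eq_one_iff] at hd
        rw [htk, hd, one_mul]
        exact K.mul_mem hk' hk.1
      exact mem_normalizer_fintype fun k hk => hle hk
    refine ⟨K, hK.1, ?_, hKcop, ?_⟩
    · refine le_trans (Grp.le_of_forall_sylow (H := H ⊓ normalizer (K : Set X)) inf_le_left
        fun u hu => ?_) inf_le_right
      obtain ⟨U, hU, hAU⟩ := C.exists_syl u
      refine ⟨H ⊓ U, C.sylowIn_inf hU hAU hHG hAH, le_inf inf_le_left ?_⟩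
      by_cases hur : u = r
      · subst hur
        exact (inf_le_right.trans (C.le_syl hR hAR hU.1 hU.2.1 hAU)).trans hRK
      · exact (hKU u U hur hU hAU).trans le_normalizer
    · have hne0 : K.relIndex H ≠ 0 := by rw [relIndex]; exact index_ne_zero_of_finite
      exact ⟨_, Nat.eq_prime_pow_of_unique_prime_dvd hne0 fun {d} hd hdd =>
        by_contra fun hdr => hK.2.2 d hd hdr hdd⟩
where
  card_pos_bot {r : ℕ} [Fact r.Prime] {U K : Subgroup X} (h : Grp.IsSylowIn r (K ⊓ U) K)
      (hK : (Nat.card K).Coprime r) : K ⊓ U = ⊥ := by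
    rw [← Subgroup.card_eq_one, h.card,
      Nat.factorization_eq_zero_of_not_dvd ((Fact.out : r.Prime).coprime_iff_not_dvd.mp hK.symm),
      pow_zero]

/-- For an odd prime, all lines but one meet the Sylow subgroup. -/
theorem lines_odd (C : Ctx q G A) {r : ℕ} [hr : Fact r.Prime] (hr2 : r ≠ 2) {R : Subgroup X}
    (hR : Grp.IsSylowIn r R G) (hAR : A ≤ normalizer (R : Set X)) (hdvd : r ∣ Nat.card G) :
    ∃ b ∈ A, b ≠ 1 ∧ ∀ c ∈ A, c ∉ zpowers b → R ⊓ centralizer ({c} : Set X) ≠ ⊥ := by
  by_contra hcon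
  obtain ⟨P, hP⟩ := Grp.isSylowIn_iff.mp hR
  have hR0 : R ≠ ⊥ := fun e => by
    have h := hR.card
    rw [e, Subgroup.card_bot] at h
    have := (hr.out.factorization_pos_of_dvd Nat.card_pos.ne' hdvd)
    have h2 := Nat.one_lt_pow this.ne' hr.out.one_lt
    omega
  have key : ∀ W : ∀ (Q : Type u) [Group Q], Subgroup Q, Cfsg.IsCharPFunctor.{u} r W →
      Cfsg.HasNormalPComplement r ↥(normalizer (Cfsg.inducedFunctor W (P : Subgroup G) : Set G)) := by
    intro W hW
    set U0 := Cfsg.inducedFunctor W R with hU0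
    have hmap : U0 = (Cfsg.inducedFunctor W (P : Subgroup G)).map G.subtype := by
      rw [hU0, ← hP, Invol.inducedFunctor_map hW P.isPGroup' G.subtype
        (fun x _ hx => G.subtype_injective (hx.trans (map_one _).symm))]
    have hU0G : U0 ≤ G := (Invol.inducedFunctor_le W R).trans hR.1
    have hU0ne : U0 ≠ ⊥ := Invol.inducedFunctor_ne_bot hW hR.2.1 hR0
    have hAU0 : A ≤ normalizer (U0 : Set X) :=
      hAR.trans (Invol.normalizer_le_normalizer_inducedFunctor hW hR.2.1)
    have hne : G ⊓ normalizer (U0 : Set X) ≠ G := C.normalizer_ne hU0G hAU0 hU0ne fun e => by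
      have h : IsPGroup r U0 := hR.2.1.to_le (Invol.inducedFunctor_le W R)
      rw [e] at h
      exact C.not_isPGroup h
    have hRH : R ≤ G ⊓ normalizer (U0 : Set X) :=
      le_inf hR.1 (le_normalizer.trans (Invol.normalizer_le_normalizer_inducedFunctor hW hR.2.1))
    rcases C.local_dich hR hAR inf_le_left (C.inv_normalizer_inf hAU0) hne hRH with h | h
    · exact absurd h hcon
    obtain ⟨K, hKH, hHK, hKc, k, hk⟩ := h
    set M := normalizer (Cfsg.inducedFunctor W (P : Subgroup G) : Set G) with hM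
    have hMmap : M.map G.subtype = G ⊓ normalizer (U0 : Set X) := by
      ext x
      constructor
      · rintro ⟨g, hg, rfl⟩
        refine ⟨g.2, mem_normalizer_fintype fun z hz => ?_⟩
        rw [SetLike.mem_coe, hmap] at hz ⊢
        obtain ⟨y, hy, rfl⟩ := hz
        exact ⟨g * y * g⁻¹, (mem_normalizer_iff.mp hg y).mp hy, by simp⟩
      · rintro ⟨hxG, hx⟩
        refine ⟨⟨x, hxG⟩, mem_normalizer_fintype fun z hz => ?_, rfl⟩
        have hz' : (z : X) ∈ U0 := hmap ▸ ⟨z, hz, rfl⟩
        have := (mem_normalizer_iff.mp hx (z : X)).mp hz'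
        rw [hmap] at this
        obtain ⟨y, hy, e⟩ := this
        rwa [SetLike.mem_coe, show (⟨x, hxG⟩ : G) * z * (⟨x, hxG⟩ : G)⁻¹ = y from Subtype.ext e.symm]
    let e : M →* X := G.subtype.comp M.subtype
    have heinj : Function.Injective e := fun a b h => Subtype.ext (Subtype.ext h)
    have hrange : e.range = G ⊓ normalizer (U0 : Set X) := by
      rw [← hMmap, MonoidHom.range_comp, range_subtype]
    set N := K.comap e with hN
    haveI hNn : N.Normal := ⟨fun n hn g =>
      mem_comap.mpr (by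
        rw [map_mul, map_mul, map_inv]
        exact Grp.mem_conj_normalizer (hHK (hrange ▸ ⟨g, rfl⟩)) hn)⟩
    have hNK : N.map e = K := map_comap_eq_self (hrange ▸ hKH)
    have hNcard : Nat.card N = Nat.card K := by
      rw [Nat.card_congr (N.equivMapOfInjective e heinj).toEquiv, hNK]
    have hMcard : Nat.card M = Nat.card ↥(G ⊓ normalizer (U0 : Set X)) := by
      rw [← hrange]
      exact Nat.card_congr (MonoidHom.ofInjective heinj).toEquiv
    obtain ⟨P'⟩ : Nonempty (Sylow r M) := inferInstance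
    refine ⟨P', N, hNn, isComplement'_of_coprime ?_ ?_⟩
    · have hidx : N.index = r ^ k := by
        rw [← hk, hN, Subgroup.index_comap, hrange]
      have hmul := N.card_mul_index
      rw [hidx] at hmul
      rw [P'.card_eq_multiplicity, ← hmul, Nat.factorization_mul Nat.card_pos.ne'
        (pow_ne_zero _ hr.out.ne_zero), Finsupp.add_apply, hr.out.factorization_pow,
        Finsupp.single_eq_same, Nat.factorization_eq_zero_of_not_dvd
        (hr.out.coprime_iff_not_dvd.mp (hNcard ▸ hKc).symm), zero_add]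
    · rw [hNcard, P'.card_eq_multiplicity]
      exact hKc.pow_right _
  exact C.complement_false hdvd (Grp.hasNormalPComplement_of_thompson hr2 P
    (key _ Grp.omegaCenter_isCharPFunctor) (key _ Grp.thompsonA_isCharPFunctor))

end Ctx

end Cfsg.Agent.Block.WardQSq
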