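import Cfsg.Agent.Lib.Block.WardQSq.Halls

/-!
Maximal invariant subgroups for two primes have a Sylow subgroup normal.
-/

set_option autoImplicit false
set_option linter.unusedSectionVars false
set_option linter.style.haveILetI false

namespace Cfsg.Agent.Block.WardQSq

open Subgroup
open scoped commutatorElement Pointwise

universe u

variable {X : Type u} [Group X]

/-- The centre of a subgroup, inside the ambient group. -/
def zc (Y : Subgroup X) : Subgroup X := Y ⊓ centralizer (Y : Set X)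

theorem zc_le (Y : Subgroup X) : zc Y ≤ Y := inf_le_left

theorem normalizer_le_zc (Y : Subgroup X) :
    normalizer (Y : Set X) ≤ normalizer ((zc Y : Subgroup X) : Set X) :=
  inv_inf le_rfl (inv_centralizer le_rfl)

theorem zc_ne_bot [Finite X] {t : ℕ} [Fact t.Prime] {Y : Subgroup X} (hY : IsPGroup t Y)
    (hne : Y ≠ ⊥) : zc Y ≠ ⊥ := by
  haveI : Nontrivial Y := (nontrivial_iff_ne_bot Y).mpr hne
  haveI := hY.center_nontrivial
  obtain ⟨x, hx⟩ := exists_ne (1 : Subgroup.center Y)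
  intro e
  refine hx (Subtype.ext (Subtype.ext (mem_bot.mp (e.le ⟨(x : Y).2, ?_⟩))))
  exact mem_centralizer_iff.mpr fun w hw =>
    congrArg Subtype.val (Subgroup.mem_center_iff.mp x.2 ⟨w, hw⟩)

theorem Ctx.line_comm [Finite X] {q : ℕ} {G A U : Subgroup X} (C : Ctx q G A) {a : X} (ha : a ∈ A)
    (ha1 : a ≠ 1) (hU : U ≤ G) {T : Subgroup X} (hT : T ≤ G) :
    T ⊓ centralizer ({a} : Set X) ≤ centralizer ((U ⊓ centralizer ({a} : Set X) : Subgroup X) : Set X) :=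
  fun x hx => mem_centralizer_iff.mpr fun y hy =>
    (C.ab a ha ha1 y (hU hy.1) x (hT hx.1) (cmem.mp hy.2) (cmem.mp hx.2)).eq

namespace Pair

/-- A maximal invariant subgroup for the two primes. -/
def IsMax (r s : ℕ) (G A M : Subgroup X) : Prop :=
  IsRS r s G A M ∧ ∀ H, IsRS r s G A H → M ≤ H → H ≤ M

theorem IsMax.swap {r s : ℕ} {G A M : Subgroup X} (h : IsMax r s G A M) : IsMax s r G A M :=
  ⟨h.1.swap, fun H hH => h.2 H hH.swap⟩

variable [Finite X] {q r s : ℕ} {G A R Q : Subgroup X} (P : Pair q G A r s R Q)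
include P

theorem exists_max {H : Subgroup X} (h : IsRS r s G A H) : ∃ M, IsMax r s G A M ∧ H ≤ M := by
  obtain ⟨M, hM, hmax⟩ := ({K : Subgroup X | IsRS r s G A K ∧ H ≤ K}).toFinite.exists_maximal
    ⟨H, h, le_rfl⟩
  exact ⟨M, ⟨hM.1, fun K hK hMK => hmax ⟨hK, hM.2.trans hMK⟩ hMK⟩, hM.2⟩

theorem norm {M U : Subgroup X} (hM : IsMax r s G A M) (hU0 : U ≠ ⊥) (hUM : U ≤ M)
    (hAU : A ≤ normalizer (U : Set X)) (hMU : M ≤ normalizer (U : Set X)) :
    G ⊓ normalizer (U : Set X) ⊓ R ≤ M ∧ G ⊓ normalizer (U : Set X) ⊓ Q ≤ M := by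
  have hUG : U ≠ G := fun e => P.ne_G hM.1 (le_antisymm hM.1.1 (e ▸ hUM))
  obtain ⟨H, hH, -, hR, hQ⟩ := P.hall inf_le_left (P.ctx.inv_normalizer_inf hAU)
    (P.ctx.normalizer_ne (hUM.trans hM.1.1) hAU hU0 hUG)
  have hle := hM.2 H hH (P.decomp hM.1
    ((inf_le_inf_right _ (le_inf hM.1.1 hMU)).trans hR)
    ((inf_le_inf_right _ (le_inf hM.1.1 hMU)).trans hQ))
  exact ⟨hR.trans hle, hQ.trans hle⟩

theorem mem_of_norm {M U : Subgroup X} (hM : IsMax r s G A M) (hU0 : U ≠ ⊥) (hUM : U ≤ M)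
    (hAU : A ≤ normalizer (U : Set X)) (hMU : M ≤ normalizer (U : Set X)) {x : X}
    (hx : x ∈ R ∨ x ∈ Q) (hn : x ∈ normalizer (U : Set X)) : x ∈ M := by
  rcases hx with hx | hx
  · exact (P.norm hM hU0 hUM hAU hMU).1 ⟨⟨P.hR.1 hx, hn⟩, hx⟩
  · exact (P.norm hM hU0 hUM hAU hMU).2 ⟨⟨P.hQ.1 hx, hn⟩, hx⟩

/-- With data `M`, `H'` as in the uniqueness lemma, the `r`-core of `M` centralises the `s`-core of `H'`. -/
theorem core_cent {M H' : Subgroup X} (hM : IsMax r s G A M) (hH' : IsRS r s G A H')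
    (hY : Cfsg.pCoreOf s M ≠ ⊥) (hW : Cfsg.pCoreOf r M ≤ H') (hZ : zc (Cfsg.pCoreOf s M) ≤ H') :
    Cfsg.pCoreOf r M ≤ centralizer (Cfsg.pCoreOf s H' : Set X) := by
  haveI := P.fr; haveI := P.fs
  have hZn : M ≤ normalizer ((zc (Cfsg.pCoreOf s M) : Subgroup X) : Set X) :=
    (Invol.lg_le_normalizer_pCoreOf M).trans (normalizer_le_zc _)
  refine Grp.thompson_PQ (p := s) (zc (Cfsg.pCoreOf s M)) (Cfsg.pCoreOf r M)
    ((P.swap.core_pgroup M).to_le (zc_le _)) ?_ ?_ (Cfsg.pCoreOf s H') (P.swap.core_pgroup H')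
    (hZ.trans (Invol.lg_le_normalizer_pCoreOf H')) (hW.trans (Invol.lg_le_normalizer_pCoreOf H')) ?_
  · obtain ⟨i, hi⟩ := IsPGroup.iff_card.mp (P.core_pgroup M)
    rw [hi]
    exact Nat.Coprime.pow_left i ((Nat.coprime_primes P.hr P.hs).mpr P.hrs)
  · exact fun z hz => mem_centralizer_iff.mpr fun w hw => (P.cores_commute hM.1 hw (zc_le _ hz)).eq
  · rintro x ⟨hxV, hxZ⟩
    have hxQ : x ∈ Q := ((P.swap.core_le hH'.swap) hxV).2
    have hxM : x ∈ M := P.mem_of_norm hM (zc_ne_bot (P.swap.core_pgroup M) hY)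
      ((zc_le _).trans (Invol.lg_pCoreOf_le M)) ((P.swap.core_inv hM.1.2.1).trans (normalizer_le_zc _))
      hZn (.inr hxQ) (Subgroup.centralizer_le_normalizer _ hxZ)
    refine mem_centralizer_iff.mpr fun w hw => (comm_bot hw hxV ?_ ?_ ?_).eq
    · exact Invol.lg_le_normalizer_pCoreOf H' (hW hw)
    · exact Invol.lg_le_normalizer_pCoreOf M hxM
    · exact eq_bot_iff.mpr ((inf_le_inf ((P.core_le hM.1).trans inf_le_right)
        ((P.swap.core_le hH'.swap).trans inf_le_right)).trans P.inf_bot.le)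

/-- The centre of the `s`-core of `M` centralises the `r`-core of `H'`. -/
theorem zc_cent {M H' : Subgroup X} (hM : IsMax r s G A M) (hH' : IsRS r s G A H')
    (hW0 : Cfsg.pCoreOf r M ≠ ⊥)
    (hW : Cfsg.pCoreOf r M ≤ H') (hZ : zc (Cfsg.pCoreOf s M) ≤ H') :
    zc (Cfsg.pCoreOf s M) ≤ centralizer (Cfsg.pCoreOf r H' : Set X) := by
  haveI := P.fr; haveI := P.fs
  have hZn : M ≤ normalizer ((zc (Cfsg.pCoreOf s M) : Subgroup X) : Set X) :=
    (Invol.lg_le_normalizer_pCoreOf M).trans (normalizer_le_zc _)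
  refine Grp.thompson_PQ (p := r) (Cfsg.pCoreOf r M) (zc (Cfsg.pCoreOf s M))
    (P.core_pgroup M) ?_ ?_ (Cfsg.pCoreOf r H') (P.core_pgroup H')
    (hW.trans (Invol.lg_le_normalizer_pCoreOf H')) (hZ.trans (Invol.lg_le_normalizer_pCoreOf H')) ?_
  · obtain ⟨i, hi⟩ := IsPGroup.iff_card.mp ((P.swap.core_pgroup M).to_le (zc_le _))
    rw [hi]
    exact Nat.Coprime.pow_left i ((Nat.coprime_primes P.hs P.hr).mpr P.hrs.symm)
  · exact fun w hw => mem_centralizer_iff.mpr fun z hz =>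
      (P.cores_commute hM.1 hw (zc_le _ hz)).symm.eq
  · rintro x ⟨hxU, hxW⟩
    have hxR : x ∈ R := ((P.core_le hH') hxU).2
    have hxM : x ∈ M := P.mem_of_norm hM hW0 (Invol.lg_pCoreOf_le M) (P.core_inv hM.1.2.1)
      (Invol.lg_le_normalizer_pCoreOf M) (.inl hxR) (Subgroup.centralizer_le_normalizer _ hxW)
    refine mem_centralizer_iff.mpr fun z hz => (comm_bot hz hxU ?_ ?_ ?_).eq
    · exact Invol.lg_le_normalizer_pCoreOf H' (hZ hz)
    · exact hZn hxM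
    · exact eq_bot_iff.mpr ((inf_le_inf (((zc_le _).trans (P.swap.core_le hM.1.swap)).trans inf_le_right)
        ((P.core_le hH').trans inf_le_right)).trans ((inf_comm Q R).trans P.inf_bot).le)

/-- Uniqueness. -/
theorem contain {M H : Subgroup X} (hM : IsMax r s G A M) (hW0 : Cfsg.pCoreOf r M ≠ ⊥)
    (hY0 : Cfsg.pCoreOf s M ≠ ⊥) (hH : IsRS r s G A H) (hW : Cfsg.pCoreOf r M ≤ H)
    (hZ : zc (Cfsg.pCoreOf s M) ≤ H) : H ≤ M := by
  haveI := P.fr; haveI := P.fs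
  obtain ⟨H', hH', hle⟩ := P.exists_max hH
  have hW' := hW.trans hle
  have hZ' := hZ.trans hle
  set W := Cfsg.pCoreOf r M with hWdef
  set Y := Cfsg.pCoreOf s M with hYdef
  set U := Cfsg.pCoreOf r H' with hUdef
  set V := Cfsg.pCoreOf s H' with hVdef
  have hZn : M ≤ normalizer ((zc Y : Subgroup X) : Set X) :=
    (Invol.lg_le_normalizer_pCoreOf M).trans (normalizer_le_zc _)
  have h1 := P.core_cent hM hH'.1 hY0 hW' hZ'
  have hWU : W ≤ U := P.swap.le_core hH'.1.swap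
    (le_inf hW' ((P.core_le hM.1).trans inf_le_right)) h1
  have hU0 : U ≠ ⊥ := fun e => hW0 (eq_bot_iff.mpr (e ▸ hWU))
  have h2 := P.zc_cent hM hH'.1 hW0 hW' hZ'
  have hV0 : V ≠ ⊥ := fun e => zc_ne_bot (P.swap.core_pgroup M) hY0 (eq_bot_iff.mpr (e ▸
    P.le_core hH'.1 (le_inf hZ' (((zc_le Y).trans (P.swap.core_le hM.1.swap)).trans inf_le_right)) h2))
  have hUM : U ≤ M := fun x hx => P.mem_of_norm hM (zc_ne_bot (P.swap.core_pgroup M) hY0)
    ((zc_le _).trans (Invol.lg_pCoreOf_le M)) ((P.swap.core_inv hM.1.2.1).trans (normalizer_le_zc _))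
    hZn (.inl ((P.core_le hH'.1) hx).2)
    (Subgroup.centralizer_le_normalizer _ (le_centralizer_iff.mp h2 hx))
  have hVM : V ≤ M := fun x hx => P.mem_of_norm hM hW0 (Invol.lg_pCoreOf_le M)
    (P.core_inv hM.1.2.1) (Invol.lg_le_normalizer_pCoreOf M)
    (.inr ((P.swap.core_le hH'.1.swap) hx).2)
    (Subgroup.centralizer_le_normalizer _ (le_centralizer_iff.mp h1 hx))
  have hUW : U ≤ W := P.swap.le_core hM.1.swap (le_inf hUM ((P.core_le hH'.1).trans inf_le_right))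
    (P.core_cent hH' hM.1 hV0 hUM ((zc_le _).trans hVM))
  have e : W = U := le_antisymm hWU hUW
  have hn := P.norm hM hW0 (Invol.lg_pCoreOf_le M) (P.core_inv hM.1.2.1)
    (Invol.lg_le_normalizer_pCoreOf M)
  have hH'n : H' ≤ normalizer (W : Set X) := by
    rw [e]; exact Invol.lg_le_normalizer_pCoreOf H'
  exact hle.trans (P.decomp hH'.1 ((inf_le_inf_right _ (le_inf hH'.1.1 hH'n)).trans hn.1)
    ((inf_le_inf_right _ (le_inf hH'.1.1 hH'n)).trans hn.2))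

theorem line_le {M : Subgroup X} (hM : IsMax r s G A M) (hW0 : Cfsg.pCoreOf r M ≠ ⊥)
    (hY0 : Cfsg.pCoreOf s M ≠ ⊥) {a : X} (ha : a ∈ A) (ha1 : a ≠ 1)
    (h : Cfsg.pCoreOf r M ⊓ centralizer ({a} : Set X) ≠ ⊥) :
    R ⊓ centralizer ({a} : Set X) ≤ M ∧ Q ⊓ centralizer ({a} : Set X) ≤ M := by
  haveI := P.fr; haveI := P.fs
  set W := Cfsg.pCoreOf r M with hW
  set Wa := W ⊓ centralizer ({a} : Set X) with hWa
  have hWG : W ≤ G := (Invol.lg_pCoreOf_le M).trans hM.1.1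
  have hWaG : Wa ≤ G := inf_le_left.trans hWG
  have hAWa : A ≤ normalizer (Wa : Set X) := P.ctx.inv_line (P.core_inv hM.1.2.1) ha
  have hne : G ⊓ centralizer (Wa : Set X) ≠ G := fun e => by
    refine (P.ctx.minN Wa hWaG hAWa ?_).elim h fun e' => ?_
    · exact (inf_eq_left.mp e).trans (Subgroup.centralizer_le_normalizer _)
    · exact P.ne_G hM.1 (le_antisymm hM.1.1 (e' ▸ inf_le_left.trans (Invol.lg_pCoreOf_le M)))
  obtain ⟨H, hH, -, hR, hQ⟩ := P.hall inf_le_left (inv_inf P.ctx.hAG (inv_centralizer hAWa)) hne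
  have hle : H ≤ M := by
    refine P.swap.contain hM.swap hY0 hW0 hH.swap ?_ ?_
    · intro y hy
      refine hQ ⟨⟨(Invol.lg_pCoreOf_le M).trans hM.1.1 hy, mem_centralizer_iff.mpr fun w hw => ?_⟩,
        ((P.swap.core_le hM.1.swap) hy).2⟩
      exact (P.cores_commute hM.1 hw.1 hy).eq
    · intro z hz
      refine hR ⟨⟨hWG hz.1, mem_centralizer_iff.mpr fun w hw => ?_⟩, ((P.core_le hM.1) hz.1).2⟩
      exact mem_centralizer_iff.mp hz.2 w hw.1
  exact ⟨fun x hx => hle (hR ⟨⟨P.hR.1 hx.1, P.ctx.line_comm ha ha1 hWG P.hR.1 hx⟩, hx.1⟩),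
    fun x hx => hle (hQ ⟨⟨P.hQ.1 hx.1, P.ctx.line_comm ha ha1 hWG P.hQ.1 hx⟩, hx.1⟩)⟩

/-- A maximal subgroup with both cores non-trivial contains `Q`. -/
theorem short_false {M : Subgroup X} (hM : IsMax r s G A M) (hW0 : Cfsg.pCoreOf r M ≠ ⊥)
    (hY0 : Cfsg.pCoreOf s M ≠ ⊥) (hQ : ¬ Q ≤ M) : False := by
  haveI := P.fr; haveI := P.fs
  haveI := Fact.mk P.ctx.hq
  set W := Cfsg.pCoreOf r M with hW
  set Y := Cfsg.pCoreOf s M with hY
  have hAM := hM.1.2.1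
  have hMQ : A ≤ normalizer ((M ⊓ Q : Subgroup X) : Set X) := P.inv_Q hAM
  have hYle : Y ≤ M ⊓ Q := P.swap.core_le hM.1.swap
  obtain ⟨b, hb, hb1, hbW⟩ : ∃ b ∈ A, b ≠ 1 ∧
      ¬ M ⊓ Q ⊓ centralizer ({b} : Set X) ≤ centralizer (W : Set X) := by
    by_contra! hc
    have h1 : M ⊓ Q ≤ Y := P.le_core hM.1 le_rfl
      (P.ctx.le_of_lines (inf_le_left.trans hM.1.1) hMQ hc)
    have e : Y = M ⊓ Q := le_antisymm hYle h1
    obtain ⟨x, hxQ, hxn, hxY⟩ := grow P.hQ.2.1 (inf_le_right : M ⊓ Q ≤ Q)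
      (fun e' => hQ (e' ▸ inf_le_left))
    exact hxY ⟨P.mem_of_norm hM (e ▸ hY0) inf_le_left hMQ
      (e ▸ Invol.lg_le_normalizer_pCoreOf M) (.inr hxQ) hxn, hxQ⟩
  -- the other lines lie in `M`
  have key : ∀ d ∈ A, d ≠ 1 → ¬ M ⊓ Q ⊓ centralizer ({d} : Set X) ≤ centralizer (W : Set X) →
      ∀ c ∈ A, c ∉ zpowers d → Q ⊓ centralizer ({c} : Set X) ≤ M := by
    intro d hd hd1 hdW c hc hcd
    refine (P.line_le hM hW0 hY0 hc (Ctx.ne_one_of_outside P.ctx hcd) fun h0 => hdW ?_).2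
    refine commute_of_fpf (q := q) P.hrs (P.core_pgroup M) (P.hQ.2.1.to_le (inf_le_left.trans inf_le_right))
      ((inf_le_left.trans inf_le_left).trans (Invol.lg_le_normalizer_pCoreOf M))
      (P.ctx.hA.2 c hc) (P.ctx.inv_line hMQ hd hc) (P.core_inv hAM hc) ?_ h0
    rw [eq_bot_iff]
    rintro x ⟨⟨hxQ, hxd⟩, hxc⟩
    exact mem_bot.mpr (P.ctx.fix_two (P.hQ.1 hxQ.2) hd hd1 hc hcd (cmem.mp hxd) (cmem.mp hxc))
  have hallQ : ∀ c ∈ A, c ∉ zpowers b → Q ⊓ centralizer ({c} : Set X) ≤ M := key b hb hb1 hbW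
  have hb_eq : ∀ a ∈ A, a ≠ 1 → a ∈ zpowers b →
      centralizer ({a} : Set X) ≤ centralizer ({b} : Set X) := by
    intro a ha ha1 hab
    have e : zpowers a = zpowers b := eq_of_le_of_card_ge (zpowers_le.mpr hab) (by
      rw [Nat.card_zpowers, Nat.card_zpowers, P.ctx.orderOf_a ha ha1, P.ctx.orderOf_a hb hb1])
    obtain ⟨i, hi⟩ := mem_zpowers_iff.mp (e ▸ mem_zpowers b : b ∈ zpowers a)
    intro x hx
    rw [cmem] at hx ⊢
    exact hi ▸ hx.zpow_right i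
  -- only `b` acts on `W`
  have hone : ∀ c ∈ A, c ∉ zpowers b → M ⊓ Q ⊓ centralizer ({c} : Set X) ≤ Y := by
    intro c hc hcb
    refine P.le_core hM.1 inf_le_left ?_
    by_contra hcW
    refine hQ (P.ctx.le_of_lines P.hQ.1 P.hAQ fun a ha ha1 => ?_)
    rcases P.ctx.not_mem_both ha ha1 hb hc hcb with h | h
    · exact hallQ a ha h
    · exact key c hc (Ctx.ne_one_of_outside P.ctx hcb) hcW a ha h
  set B := M ⊓ Q ⊓ centralizer ({b} : Set X) with hB
  have hQY : M ⊓ Q ≤ Y ⊔ B := P.ctx.le_of_lines (inf_le_left.trans hM.1.1) hMQ fun a ha ha1 => by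
    by_cases hab : a ∈ zpowers b
    · exact le_trans (inf_le_inf_left _ (hb_eq a ha ha1 hab)) le_sup_right
    · exact (hone a ha hab).trans le_sup_left
  have hYb : Y ⊓ centralizer ({b} : Set X) = ⊥ := by
    by_contra h0
    refine hQ (P.ctx.le_of_lines P.hQ.1 P.hAQ fun a ha ha1 => ?_)
    by_cases hab : a ∈ zpowers b
    · exact (inf_le_inf_left _ (hb_eq a ha ha1 hab)).trans
        (P.swap.line_le hM.swap hY0 hW0 hb hb1 h0).1
    · exact hallQ a ha hab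
  -- an element outside `M` normalising `M ⊓ Q` and centralising `b`
  obtain ⟨x, hxQ, hxn, hxb, hxM⟩ : ∃ x, x ∈ Q ∧ x ∈ normalizer ((M ⊓ Q : Subgroup X) : Set X) ∧
      Commute x b ∧ x ∉ M := by
    by_contra! hc
    obtain ⟨x, hxQ, hxn, hxY⟩ := grow P.hQ.2.1 (inf_le_right : M ⊓ Q ≤ Q)
      (fun e' => hQ (e' ▸ inf_le_left))
    refine hxY ⟨?_, hxQ⟩
    refine (P.ctx.le_of_lines (inf_le_left.trans P.hQ.1) (inv_inf P.hAQ (inv_normalizer hMQ))
      (fun a ha ha1 => ?_) : Q ⊓ normalizer ((M ⊓ Q : Subgroup X) : Set X) ≤ M) ⟨hxQ, hxn⟩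
    by_cases hab : a ∈ zpowers b
    · rintro y ⟨⟨hyQ, hyn⟩, hya⟩
      exact hc y hyQ hyn (cmem.mp (hb_eq a ha ha1 hab hya))
    · exact le_trans (inf_le_inf_right _ inf_le_left) (hallQ a ha hab)
  have hbY : zpowers b ≤ normalizer (Y : Set X) := zpowers_le.mpr (P.swap.core_inv hAM hb)
  have hYgen : Y ≤ ⁅Y, zpowers b⁆ := by
    haveI := P.ctx.solA
    intro y hy
    obtain ⟨m, hm, c, hc, rfl⟩ := Grp.exists_commutator_mul_fixed (zpowers b) Y hbY
      ((P.ctx.cop ((Invol.lg_pCoreOf_le M).trans hM.1.1)).coprime_dvd_left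
        (card_dvd_of_le (zpowers_le.mpr hb)))
      (.inl (Group.isSolvable_of_isSolvable_injective
        (f := inclusion (zpowers_le.mpr hb : zpowers b ≤ A)) (inclusion_injective _))) hy
    have hc1 : c = 1 := mem_bot.mp (hYb.le ⟨hc.1, cmem.mpr
      (mem_centralizer_iff.mp hc.2 b (mem_zpowers b)).symm⟩)
    rw [hc1, mul_one]
    exact hm
  have hxY : ∀ y ∈ Y, x * y * x⁻¹ ∈ Y := by
    have hle : ⁅Y, zpowers b⁆ ≤ Y.comap (MulAut.conj x).toMonoidHom := by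
      rw [commutator_le]
      rintro y hy _ ⟨i, rfl⟩
      show x * ⁅y, b ^ i⁆ * x⁻¹ ∈ Y
      have hy' : x * y * x⁻¹ ∈ M ⊓ Q := Grp.mem_conj_normalizer hxn (hYle hy)
      have hBn : B ≤ normalizer (Y : Set X) :=
        (inf_le_left.trans inf_le_left).trans (Invol.lg_le_normalizer_pCoreOf M)
      obtain ⟨y1, hy1, z, hz, e⟩ : x * y * x⁻¹ ∈ (Y : Set X) * (B : Set X) := by
        rw [← coe_mul_of_right_le_normalizer_left Y B hBn]
        exact hQY hy'
      simp only at e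
      have hxi : Commute x (b ^ i) := hxb.zpow_right i
      have hzi : Commute z (b ^ i) := (cmem.mp hz.2).zpow_right i
      have : x * ⁅y, b ^ i⁆ * x⁻¹ = ⁅y1, b ^ i⁆ := by
        calc x * ⁅y, b ^ i⁆ * x⁻¹ = ⁅x * y * x⁻¹, x * b ^ i * x⁻¹⁆ := by
              simp only [commutatorElement_def]; group
          _ = ⁅y1 * z, b ^ i⁆ := by
              rw [← e, show x * b ^ i * x⁻¹ = b ^ i by rw [hxi.eq, mul_inv_cancel_right]]
          _ = y1 * (z * b ^ i) * z⁻¹ * y1⁻¹ * (b ^ i)⁻¹ := by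
              simp only [commutatorElement_def]; group
          _ = ⁅y1, b ^ i⁆ := by
              rw [hzi.eq]; simp only [commutatorElement_def]; group
      rw [this, commutatorElement_def]
      have h2 : b ^ i * y1⁻¹ * (b ^ i)⁻¹ ∈ Y :=
        Grp.mem_conj_normalizer (hbY (zpow_mem (mem_zpowers b) i)) (Y.inv_mem hy1)
      simpa only [mul_assoc] using Y.mul_mem hy1 h2
    exact fun y hy => hle (hYgen hy)
  exact hxM (P.mem_of_norm hM hY0 (Invol.lg_pCoreOf_le M) (P.swap.core_inv hAM)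
    (Invol.lg_le_normalizer_pCoreOf M) (.inr hxQ) (mem_normalizer_fintype hxY))

theorem max_false {M : Subgroup X} (hM : IsMax r s G A M) (hW0 : Cfsg.pCoreOf r M ≠ ⊥)
    (hY0 : Cfsg.pCoreOf s M ≠ ⊥) : False := by
  by_cases hQ : Q ≤ M
  · exact P.swap.short_false hM.swap hY0 hW0 fun hR => P.perm M hM.1 hR hQ
  · exact P.short_false hM hW0 hY0 hQ

theorem max_core_bot {M : Subgroup X} (hM : IsMax r s G A M) (h : Cfsg.pCoreOf r M = ⊥) :
    M ≤ normalizer (Q : Set X) := by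
  haveI := P.fr; haveI := P.fs
  set Y := Cfsg.pCoreOf s M with hY
  have h1 : M ⊓ Q ≤ Y := P.le_core hM.1 le_rfl (fun u _ => mem_centralizer_iff.mpr fun w hw => by
    rw [h] at hw; rw [mem_bot.mp hw]; simp)
  have e : Y = M ⊓ Q := le_antisymm (P.swap.core_le hM.1.swap) h1
  by_cases hY0 : Y = ⊥
  · have h2 : M ⊓ R ≤ Cfsg.pCoreOf r M := P.swap.le_core hM.1.swap le_rfl
      (fun u _ => mem_centralizer_iff.mpr fun w hw => by
        rw [SetLike.mem_coe, ← hY, hY0] at hw; rw [mem_bot.mp hw]; simp)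
    rw [h] at h2
    exact P.decomp hM.1 (h2.trans bot_le) ((h1.trans hY0.le).trans bot_le)
  · have hQM : Q ≤ M := by
      by_contra hQM
      obtain ⟨x, hxQ, hxn, hx⟩ := grow P.hQ.2.1 (inf_le_right : M ⊓ Q ≤ Q)
        (fun e' => hQM (e' ▸ inf_le_left))
      exact hx ⟨P.mem_of_norm hM (e ▸ hY0) inf_le_left (P.inv_Q hM.1.2.1)
        (e ▸ Invol.lg_le_normalizer_pCoreOf M) (.inr hxQ) hxn, hxQ⟩
    have e2 : Y = Q := e.trans (inf_eq_right.mpr hQM)
    exact e2 ▸ Invol.lg_le_normalizer_pCoreOf M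

theorem dich {H : Subgroup X} (h : IsRS r s G A H) :
    H ≤ normalizer (R : Set X) ∨ H ≤ normalizer (Q : Set X) := by
  obtain ⟨M, hM, hle⟩ := P.exists_max h
  by_cases hW : Cfsg.pCoreOf r M = ⊥
  · exact .inr (hle.trans (P.max_core_bot hM hW))
  by_cases hY : Cfsg.pCoreOf s M = ⊥
  · exact .inl (hle.trans (P.swap.max_core_bot hM.swap hY))
  exact (P.max_false hM hW hY).elim

end Pair

end Cfsg.Agent.Block.WardQSq
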